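import Groth.Agent.HMSec.Family
import Groth.Agent.Obs28.Unip.Torus

/-!
The scaling of an orbit towards a limit point, and the sign of the numerical function of a semistable point.
-/

set_option autoImplicit false
set_option linter.unusedSectionVars false
set_option linter.style.haveILetI false
set_option backward.isDefEq.respectTransparency false
set_option backward.isDefEq.respectTransparency.types false

universe u

open CategoryTheory CategoryTheory.Limits MonoidalCategory CartesianMonoidalCategory MonObj GrpObj AlgebraicGeometry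
open Opposite TopologicalSpace
open Groth.Agent.GrpSchLib.Kunneth (Fn ev pullFn)

namespace Groth.Agent.HMAmple

open HMSec

variable {k : Type u} [Field k] [IsAlgClosed k] {G X : Over (Spec (CommRingCat.of k))} [GrpObj G]
variable {a : AlgGrp.Action G X} (B : GLinSh.LinBun G a)

/-- An orbit vector under a one-parameter subgroup is the power of the parameter given by the weight at the limit,
up to a unit, times a vector over the limit. -/
theorem exists_scale [IsProper X.hom] (hB : HMNum.AmpleCover B) {l : Red.Gm (Spec (CommRingCat.of k)) ⟶ G}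
    [IsMonHom l] {x y : 𝟙_ (Over (Spec (CommRingCat.of k))) ⟶ X} (hy : HMNum.IsLimitPt a l x y) {w : ℤ}
    (hw : HMNum.HasFibreWeight B l y w) {v₀ : VecGrp.pt k k ⟶ B.V} (hv₀ : v₀ ≫ B.π = cst x k) (hg₀ : Gd B v₀) :
    ∃ (N : ℕ) (vR : VecGrp.pt k (Loc k) ⟶ B.V) (s : FF k) (c : (Loc k)ˣ), 1 ≤ N ∧ Gd B vR ∧
      (VecGrp.ptMap locEval ≫ vR) ≫ B.π = cst y k ∧
      Rel B s (VecGrp.ptMap locToFF ≫ vR)
        (lift (gmPt (k := k) (ffU k) ≫ l) (VecGrp.ptMap (Algebra.ofId k (FF k)) ≫ v₀) ≫ B.lift.act) ∧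
      s ^ N = ((ffU k ^ ((N : ℤ) * w) : (FF k)ˣ) : FF k) * locToFF (c : Loc k) := by
  let T := Red.Gm (Spec (CommRingCat.of k))
  obtain ⟨D⟩ := exists_charData T (Obs28.Unip.isTorus_GmK k)
  obtain ⟨hqc, hsep⟩ := isAffine_quasiCompact (T := T) (Obs28.Unip.isTorus_GmK k)
  haveI := hqc
  haveI := hsep
  obtain ⟨Φ⟩ := exists_family (a := a) (B := B) (D := D) (i := l) hB
  obtain ⟨vy, hvy, hgy⟩ := exists_gd B (cst y k)
  obtain ⟨r, hr⟩ := Φ.cover vy hgy
  let e := Algebra.ofId k (FF k)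
  let g := gmPt (k := k) (ffU k)
  let d := D.pair (Φ.χ r) (𝟙 T)
  have hshift : ∀ v : VecGrp.pt k (FF k) ⟶ B.V,
      pullFn (lift (g ≫ l) v ≫ B.lift.act) (Φ.f r) = ((ffU k ^ d : (FF k)ˣ) : FF k) * pullFn v (Φ.f r) := fun v => by
    have h := Φ.eig r (FF k) g v
    have h2 := D.pair_spec (Φ.χ r) (𝟙 T) (FF k) g
    rw [Category.comp_id, gmVal_gmPt] at h2
    rw [h2] at h
    exact h
  have hvy' : (VecGrp.ptMap e ≫ vy) ≫ B.π = cst y (FF k) := by rw [Category.assoc, hvy, ptMap_cst]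
  have hrel := Φ.hom r (FF k) _ _ _ (rel_of_hasFibreWeight B hw g hvy')
  rw [hshift, GrpSchLib.Kunneth.pullFn_ptMap, ← Units.val_pow_eq_pow_val, gmVal_gmPt] at hrel
  have hne : e (pullFn vy (Φ.f r)) ≠ 0 := fun h => hr ((algebraMap k (FF k)).injective (h.trans (map_zero _).symm))
  have hd : (Φ.deg : ℤ) * w = d := by
    refine (pow_ffX_injective (k := k) (Units.ext ((mul_right_cancel₀ hne hrel).trans ?_))).symm
    rw [mul_comm, _root_.zpow_mul, zpow_natCast]
  obtain ⟨p, hp, hp0⟩ := exists_locPoint_limit hy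
  obtain ⟨vR, hvR, hgR⟩ := exists_gd B p
  let vK := lift (g ≫ l) (VecGrp.ptMap e ≫ v₀) ≫ B.lift.act
  have hvK : vK ≫ B.π = (VecGrp.ptMap locToFF ≫ vR) ≫ B.π := by
    rw [act_π, Category.assoc, hv₀, ptMap_cst, Category.assoc, hvR, hp]
  obtain ⟨s, hs, hsu⟩ := exists_rel B (hgR.map B locToFF) hvK
  have hs0 : s ≠ 0 := (hsu ((hg₀.map B e).act B _)).ne_zero
  have hval : ((ffU k ^ d : (FF k)ˣ) : FF k) * algebraMap k (FF k) (pullFn v₀ (Φ.f r)) =
      s ^ Φ.deg * locToFF (pullFn vR (Φ.f r)) := by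
    have h := Φ.hom r (FF k) _ _ _ hs
    rw [GrpSchLib.Kunneth.pullFn_ptMap] at h
    rw [← h, hshift, GrpSchLib.Kunneth.pullFn_ptMap]
    rfl
  have hclosed : (VecGrp.ptMap locEval ≫ vR) ≫ B.π = cst y k := by rw [Category.assoc, hvR, hp0]
  obtain ⟨t, ht, htu⟩ := exists_rel B hgy (hclosed.trans hvy.symm)
  have hu : IsUnit (pullFn vR (Φ.f r)) := isUnit_of_locEval (by
    rw [← GrpSchLib.Kunneth.pullFn_ptMap, Φ.hom r k _ _ _ ht]
    exact mul_ne_zero (pow_ne_zero _ (htu (hgR.map B locEval)).ne_zero) hr)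
  have hr0 : pullFn v₀ (Φ.f r) ≠ 0 := fun h => by
    rw [h, map_zero, mul_zero, eq_comm, mul_eq_zero] at hval
    rcases hval with h1 | h1
    · exact pow_ne_zero _ hs0 h1
    · exact hu.ne_zero (ff_injective (h1.trans (map_zero _).symm))
  let c : (Loc k)ˣ := ((isUnit_iff_ne_zero.mpr hr0).map (algebraMap k (Loc k))).unit * hu.unit⁻¹
  refine ⟨Φ.deg, vR, s, c, Φ.deg_pos, hgR, hclosed, hs, ?_⟩
  rw [hd]
  have hc : (c : Loc k) * pullFn vR (Φ.f r) = algebraMap k (Loc k) (pullFn v₀ (Φ.f r)) := by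
    simp [c, _root_.mul_assoc]
  refine mul_right_cancel₀ (b := locToFF (pullFn vR (Φ.f r))) ?_ ?_
  · exact fun h => hu.ne_zero (ff_injective (h.trans (map_zero _).symm))
  · rw [_root_.mul_assoc, ← map_mul, hc, AlgHom.commutes]
    exact hval.symm

/-- The numerical function is non-negative at a point where an invariant section of positive degree is non-zero. -/
theorem weight_nonpos [IsProper X.hom] (hB : HMNum.AmpleCover B) {l : Red.Gm (Spec (CommRingCat.of k)) ⟶ G}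
    [IsMonHom l] {x y : 𝟙_ (Over (Spec (CommRingCat.of k))) ⟶ X} (hy : HMNum.IsLimitPt a l x y) {w : ℤ}
    (hw : HMNum.HasFibreWeight B l y w) {v₀ : VecGrp.pt k k ⟶ B.V} (hv₀ : v₀ ≫ B.π = cst x k) (hg₀ : Gd B v₀)
    {n : ℕ} (hn : 1 ≤ n) {f : Fn B.V} (hf : B.IsInvSection n f) (hf0 : pullFn v₀ f ≠ 0) : w ≤ 0 := by
  obtain ⟨N, vR, s, c, hN, -, -, hs, hpow⟩ := exists_scale B hB hy hw hv₀ hg₀
  have hinv : pullFn (lift (gmPt (k := k) (ffU k) ≫ l) (VecGrp.ptMap (Algebra.ofId k (FF k)) ≫ v₀) ≫ B.lift.act) f =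
      algebraMap k (FF k) (pullFn v₀ f) := by
    have h : ev (B.lift.act) f = ev (snd G B.V) f := hf.2
    rw [GrpSchLib.Kunneth.pullFn_apply, ← GrpSchLib.Kunneth.ev_ev, h, GrpSchLib.Kunneth.ev_ev, lift_snd,
      ← GrpSchLib.Kunneth.pullFn_apply, GrpSchLib.Kunneth.pullFn_ptMap]
    rfl
  have h1 := isHom_of_hasWeight B hf.1 (FF k) _ _ _ hs
  rw [hinv, GrpSchLib.Kunneth.pullFn_ptMap] at h1
  have h2 := congrArg (fun z => z ^ N) h1
  simp only [mul_pow, ← pow_mul] at h2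
  rw [mul_comm n N, pow_mul s, hpow, mul_pow] at h2
  by_contra hpos
  obtain ⟨m, hm, hm0⟩ : ∃ m : ℕ, (N : ℤ) * w * n = m ∧ m ≠ 0 := by
    refine ⟨((N : ℤ) * w * n).toNat, (Int.toNat_of_nonneg (mul_nonneg (mul_nonneg (Int.natCast_nonneg N) (le_of_lt (not_le.mp hpos)))
      (Int.natCast_nonneg n))).symm, ?_⟩
    have : 0 < (N : ℤ) * w * n := by
      have : (0 : ℤ) < w := not_le.mp hpos
      positivity
    omega
  rw [← Units.val_pow_eq_pow_val, ← zpow_natCast (ffU k ^ ((N : ℤ) * w)), ← _root_.zpow_mul, hm, zpow_natCast,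
    Units.val_pow_eq_pow_val, show ((ffU k : (FF k)ˣ) : FF k) = locToFF (locX k) from rfl,
    ← (locToFF (k := k)).commutes] at h2
  replace h2 : locToFF ((algebraMap k (Loc k) (pullFn v₀ f)) ^ N) =
      locToFF (locX k ^ m * (c : Loc k) ^ n * pullFn vR f ^ N) := by
    simpa only [map_mul, map_pow] using h2
  have h3 := ff_injective h2
  have h4 : IsUnit (locX k ^ m * (c : Loc k) ^ n * pullFn vR f ^ N) :=
    h3 ▸ ((isUnit_iff_ne_zero.mpr hf0).map (algebraMap k (Loc k))).pow N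
  exact not_isUnit_locX ((isUnit_pow_iff hm0).mp (isUnit_of_mul_isUnit_left (isUnit_of_mul_isUnit_left h4)))

end Groth.Agent.HMAmple
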