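import Groth.Agent.HMAmple.Data
import Groth.Agent.HMAmple.Scale
import Groth.Agent.HMGit.VecSmall
import Groth.Agent.HMTransLib.Limit
import Groth.Agent.LinRed66.Bridge
import Groth.Agent.GrpSchLib.SmoothReduced

/-!
The numerical criterion for the semistability of a rational point for an ample linearised bundle.
-/

set_option autoImplicit false
set_option linter.unusedSectionVars false
set_option linter.style.haveILetI false
set_option backward.isDefEq.respectTransparency false
set_option backward.isDefEq.respectTransparency.types false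

universe u

open CategoryTheory CategoryTheory.Limits MonoidalCategory CartesianMonoidalCategory MonObj GrpObj AlgebraicGeometry
open Opposite TopologicalSpace WithConv LaurentPolynomial
open Groth.Agent.GrpSchLib.Kunneth (Fn ev pullFn)
open Groth.Agent.GrpSchLib.AffineHopf (sp spMap)
open scoped Groth.Agent.HMGit

namespace Groth.Agent.HMAmple

open HMSec

variable {k : Type u} [Field k] {G X : Over (Spec (CommRingCat.of k))} [GrpObj G]

/-- A reductive group in characteristic zero has a reduced linearly reductive model. -/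
theorem exists_model [CharZero k] (hG : Red.IsReductive G) :
    ∃ (A : Type u) (_ : CommRing A) (_ : HopfAlgebra k A), Algebra.FiniteType k A ∧ _root_.IsReduced A ∧
      HopfRep.IsLinearlyReductive k A ∧ Nonempty (Grp.mk (sp k A) ≅ Grp.mk G) := by
  obtain ⟨A, _, _, hft, hlr, ⟨e⟩⟩ := LinRed66.exists_model_isLinearlyReductive hG
  haveI := hG.2.1
  haveI : IsReduced G.left := GrpSchLib.isReduced_of_smooth_field G.hom
  haveI := LinRed66.isIso_left e
  haveI : IsReduced (Spec (CommRingCat.of A)) :=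
    @isReduced_of_isOpenImmersion (Spec (CommRingCat.of A)) G.left e.hom.hom.hom.left
      (@IsOpenImmersion.of_isIso _ _ e.hom.hom.hom.left (LinRed66.isIso_left e)) inferInstance
  exact ⟨A, inferInstance, inferInstance, hft, (affine_isReduced_iff (CommRingCat.of A)).mp inferInstance, hlr, ⟨e⟩⟩

/-- A rational point of the base, seen from a vector over it. -/
theorem base_eq {x : 𝟙_ (Over (Spec (CommRingCat.of k))) ⟶ X} {V : Over (Spec (CommRingCat.of k))} {π : V ⟶ X}
    {v₀ : VecGrp.pt k k ⟶ V} (hv₀ : v₀ ≫ π = cst x k) (p : (𝟙_ (Over (Spec (CommRingCat.of k)))).left) :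
    (v₀ ≫ π).left.base (IsLocalRing.closedPoint k) = x.left.base p := by
  haveI : Subsingleton ((𝟙_ (Over (Spec (CommRingCat.of k)))).left : Scheme.{u}) :=
    inferInstanceAs (Subsingleton (PrimeSpectrum k))
  rw [hv₀, cst, Over.comp_left, Scheme.Hom.comp_apply]
  exact congrArg _ (Subsingleton.elim _ _)

/-- Laurent polynomials in positive powers become multiples of the uniformiser. -/
theorem exists_evC_eq_locX_mul {L : k[T;T⁻¹]} (h : ∀ n : ℤ, n < 1 → L.coeff n = 0) :
    ∃ z : Loc k, evC (k := k) (ffU k) L = locToFF (locX k * z) := by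
  refine ⟨∑ n ∈ L.coeff.support, algebraMap k (Loc k) (L.coeff n) * locX k ^ ((n - 1).toNat), ?_⟩
  rw [evC, AddMonoidAlgebra.lift_apply, Finsupp.sum, Finset.mul_sum, map_sum]
  refine Finset.sum_congr rfl fun n hn => ?_
  have hn1 : 1 ≤ n := by
    by_contra hlt
    exact Finsupp.mem_support_iff.mp hn (h n (by omega))
  obtain ⟨j, rfl⟩ : ∃ j : ℕ, n = (j : ℤ) + 1 := ⟨(n - 1).toNat, by omega⟩
  simp only [add_sub_cancel_right, Int.toNat_natCast, MonoidHom.coe_comp, Function.comp_apply, Units.coeHom_apply]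
  rw [zpowersHom_apply, toAdd_ofAdd, show ((j : ℤ) + 1) = ((j + 1 : ℕ) : ℤ) by push_cast; rfl, zpow_natCast,
    Units.val_pow_eq_pow_val, show ((ffU k : (FF k)ˣ) : FF k) = locToFF (locX k) from rfl,
    map_mul, map_mul, map_pow, AlgHom.commutes, Algebra.smul_def, pow_succ']
  ring

variable [IsAlgClosed k] {a : AlgGrp.Action G X} (B : GLinSh.LinBun G a)

section
variable [IsProper X.hom] [QuasiCompact G.hom] [IsSeparated G.hom] [IsReduced G.left]
  [LocallyOfFiniteType G.hom] {A : Type u} [CommRing A] [HopfAlgebra k A] [Algebra.FiniteType k A]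
  [_root_.IsReduced A] (e : Grp.mk (sp k A) ≅ Grp.mk G) (D : Data B)

/-- The coordinates of the orbit of a vector under a one-parameter subgroup of the model. -/
theorem pullFn_scale (lam : A →ₐc[k] k[T;T⁻¹]) (v₀ : VecGrp.pt k k ⟶ B.V) (i : Fin D.n) :
    pullFn (lift (gmPt (k := k) (ffU k) ≫ lamGm e lam) (VecGrp.ptMap (Algebra.ofId k (FF k)) ≫ v₀) ≫ B.lift.act)
        (D.f i) =
      evC (k := k) (ffU k) (@ComodLib.lamCoord k _ A _ _ (Fin D.n)
        (linComod (repMatrix e D.M) (D.isComodMatrix e)) (isCoactAlg_linComod _ _) lam (fun j => pullFn v₀ (D.f j)) i) := by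
  haveI := (quasiCompact_isSeparated B).1
  haveI := (quasiCompact_isSeparated B).2
  rw [pullFn_act B.lift D.f D.M D.stable]
  unfold ComodLib.lamCoord GLin.lamOrbit
  rw [AlgHom.comp_apply, orbitHom_X, map_sum, map_sum]
  refine Finset.sum_congr rfl fun b _ => ?_
  rw [pullFn_comp_lamGm, gmVal_gmPt, GrpSchLib.Kunneth.pullFn_ptMap, map_smul, map_smul, Algebra.smul_def,
    mul_comm (algebraMap k (FF k) _)]
  refine congrArg₂ _ ?_ rfl
  show (lamC lam (FF k) (ffU k)⁻¹).ofConv _ = (lamC lam (FF k) (ffU k)).ofConv (repMatrix e D.M b i)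
  rw [map_inv]
  exact HMGit.inv_apply _ _

/-- The numerical condition on the base gives it on the vector of values of the family. -/
theorem isMu_nonneg (hB : HMNum.AmpleCover B) {x : 𝟙_ (Over (Spec (CommRingCat.of k))) ⟶ X}
    (H : ∀ (l : Red.Gm (Spec (CommRingCat.of k)) ⟶ G) [IsMonHom l] (m : ℤ), HMNum.IsMu B l x m → 0 ≤ m)
    {v₀ : VecGrp.pt k k ⟶ B.V} (hv₀ : v₀ ≫ B.π = cst x k) (hg₀ : Gd B v₀) (lam : A →ₐc[k] k[T;T⁻¹]) (m : ℤ)
    (hm : @GLin.IsMu k _ A _ _ (Fin D.n) (linComod (repMatrix e D.M) (D.isComodMatrix e))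
      (isCoactAlg_linComod _ _) lam (fun j => pullFn v₀ (D.f j)) m) : 0 ≤ m := by
  letI := linComod (repMatrix e D.M) (D.isComodMatrix e)
  haveI := isCoactAlg_linComod (repMatrix e D.M) (D.isComodMatrix e)
  haveI := (quasiCompact_isSeparated B).1
  haveI := (quasiCompact_isSeparated B).2
  haveI := isMonHom_lamGm e lam
  obtain ⟨y, hy⟩ := exists_isLimitPt (a := a) (l := lamGm e lam) x
  obtain ⟨w, hw⟩ := exists_hasFibreWeight B (l := lamGm e lam) (HMTransLib.isFixedBy_of_isLimitPt hy)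
  have hw0 : w ≤ 0 := by
    have := H (lamGm e lam) (-w) ⟨y, hy, (neg_neg w).symm ▸ hw⟩
    omega
  obtain ⟨N, vR, s, c, hN, hgR, -, hs, hpow⟩ := exists_scale B hB hy hw hv₀ hg₀
  obtain ⟨i, hi⟩ := D.exists_ne_zero (hgR.map B locEval)
  rw [GrpSchLib.Kunneth.pullFn_ptMap] at hi
  have hu : IsUnit (pullFn vR (D.f i)) := isUnit_of_locEval hi
  by_contra hneg
  obtain ⟨h1, -⟩ := (ComodLib.isMu_iff lam _ m).mp hm
  obtain ⟨z, hz⟩ := exists_evC_eq_locX_mul (L := ComodLib.lamCoord k A lam (fun j => pullFn v₀ (D.f j)) i)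
    fun n hn => h1 i n (by omega)
  have h2 := isHom_of_hasWeight B (D.weight i) (FF k) _ _ _ hs
  rw [pullFn_scale B e D lam v₀ i, hz, GrpSchLib.Kunneth.pullFn_ptMap] at h2
  have h3 := congrArg (fun r => r ^ N) h2
  simp only [mul_pow, ← pow_mul] at h3
  rw [mul_comm D.deg N, pow_mul s, hpow, mul_pow] at h3
  obtain ⟨q, hq⟩ : ∃ q : ℕ, (N : ℤ) * w * D.deg = -(q : ℤ) := by
    refine ⟨(-((N : ℤ) * w * D.deg)).toNat, ?_⟩
    have : (N : ℤ) * w * D.deg ≤ 0 :=
      mul_nonpos_of_nonpos_of_nonneg (mul_nonpos_of_nonneg_of_nonpos (Int.natCast_nonneg N) hw0) (Int.natCast_nonneg _)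
    omega
  rw [← Units.val_pow_eq_pow_val, ← zpow_natCast (ffU k ^ ((N : ℤ) * w)), ← _root_.zpow_mul, hq] at h3
  have h4 := congrArg (fun r => ((ffU k ^ (q : ℤ) : (FF k)ˣ) : FF k) * r) h3
  simp only [← _root_.mul_assoc, ← Units.val_mul, ← _root_.zpow_add, add_neg_cancel, _root_.zpow_zero, Units.val_one,
    _root_.one_mul] at h4
  rw [zpow_natCast, Units.val_pow_eq_pow_val, show ((ffU k : (FF k)ˣ) : FF k) = locToFF (locX k) from rfl] at h4
  replace h4 : locToFF (locX k ^ q * (locX k * z) ^ N) = locToFF ((c : Loc k) ^ D.deg * pullFn vR (D.f i) ^ N) := by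
    simpa only [map_mul, map_pow, mul_pow, _root_.mul_assoc] using h4
  have h5 : IsUnit (locX k ^ q * (locX k * z) ^ N) :=
    ff_injective h4 ▸ (c.isUnit.pow _).mul (hu.pow N)
  exact not_isUnit_locX (isUnit_of_mul_isUnit_left ((isUnit_pow_iff (by omega)).mp (isUnit_of_mul_isUnit_right h5)))

end

variable [CharZero k] [IsProper X.hom]

/-- The numerical criterion: semistable iff the numerical function is non-negative. -/
theorem isSemistablePt_iff (hG : Red.IsReductive G) (hB : HMNum.AmpleCover B)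
    (x : 𝟙_ (Over (Spec (CommRingCat.of k))) ⟶ X) (p : (𝟙_ (Over (Spec (CommRingCat.of k)))).left) :
    B.IsSemistablePt (x.left.base p) ↔
      ∀ (l : Red.Gm (Spec (CommRingCat.of k)) ⟶ G) [IsMonHom l] (m : ℤ), HMNum.IsMu B l x m → 0 ≤ m := by
  obtain ⟨v₀, hv₀, hg₀⟩ := exists_gd B (cst x k)
  constructor
  · rintro ⟨n, f, hn, hinv, hx, -⟩ l _ m ⟨y, hy, hw⟩
    rw [← base_eq hv₀ p, HMSec.mem_nonvanishing_iff B hinv.1 v₀ hg₀] at hx
    have := weight_nonpos B hB hy hw hv₀ hg₀ hn hinv hx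
    omega
  · intro H
    haveI := hG.1
    haveI := hG.2.1
    haveI : IsReduced G.left := GrpSchLib.isReduced_of_smooth_field G.hom
    obtain ⟨A, _, _, hft, hred, hlr, ⟨e⟩⟩ := exists_model hG
    haveI := hft
    haveI := hred
    obtain ⟨D⟩ := exists_data B hB
    letI := linComod (repMatrix e D.M) (D.isComodMatrix e)
    haveI := isCoactAlg_linComod (repMatrix e D.M) (D.isComodMatrix e)
    let v : Fin D.n → k := fun j => pullFn v₀ (D.f j)
    have hv : v ≠ 0 := fun h0 => by
      obtain ⟨i, hi⟩ := D.exists_ne_zero hg₀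
      exact hi (congrFun h0 i)
    have hss : GLin.IsSemistableVec k A v :=
      (HMGit.Small.isSemistableVec_iff hlr (isLinear_linComod (repMatrix e D.M) (D.isComodMatrix e)) v hv).mpr
        fun lam m hm => isMu_nonneg B e D hB H hv₀ hg₀ lam m hm
    simp only [GLin.IsSemistableVec, GLin.IsNullform, not_forall] at hss
    obtain ⟨F, hF, d, hd, hhom, hne⟩ := hss
    obtain ⟨hinv, hn, hU⟩ := D.exists_invSection e hd hhom hF
    refine ⟨_, _, hn, hinv, ?_, hU⟩
    rw [← base_eq hv₀ p, HMSec.mem_nonvanishing_iff B hinv.1 v₀ hg₀]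
    rw [← AlgHom.comp_apply, show (pullFn v₀).comp (MvPolynomial.aeval D.f) = MvPolynomial.aeval v from
      MvPolynomial.comp_aeval _ _, MvPolynomial.aeval_eq_eval]
    exact hne

end Groth.Agent.HMAmple
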