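import Groth.Agent.HMAmple.OneParam
import Groth.Agent.HMGit.VecSmall
import Groth.Agent.ComodLib.StableClosed

/-!
An invariant form cutting out a neighbourhood of stable vectors, and boundedness of group points there.
-/

set_option autoImplicit false
set_option linter.style.haveILetI false
set_option linter.unusedSectionVars false

open WithConv
open scoped LaurentPolynomial TensorProduct

universe u

namespace Groth.Agent.HMAmple

variable {k : Type u} [Field k] [IsAlgClosed k] [CharZero k] {A : Type u} [CommRing A] [HopfAlgebra k A]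
  [Algebra.FiniteType k A] {ι : Type} [Fintype ι] [HopfRep.Comod k A (MvPolynomial ι k)]
  [GLin.IsCoactAlg k A (MvPolynomial ι k)]

/-- The value of a form at a multiple of a vector. -/
theorem eval_smul_vec {d : ℕ} {F : MvPolynomial ι k} (hF : F.IsHomogeneous d) (c : k) (z : ι → k) :
    MvPolynomial.eval (c • z) F = c ^ d * MvPolynomial.eval z F := by
  rw [MvPolynomial.eval_eq, MvPolynomial.eval_eq, Finset.mul_sum]
  refine Finset.sum_congr rfl fun m hm => ?_
  have hd : ∑ i ∈ m.support, m i = d := by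
    rw [← hF (MvPolynomial.mem_support_iff.1 hm)]
    simp [Finsupp.weight_apply, Finsupp.sum]
  simp only [Pi.smul_apply, smul_eq_mul, mul_pow, Finset.prod_mul_distrib, Finset.prod_pow_eq_pow_sum, hd]
  ring

/-- The coordinates of an orbit are linear in the vector. -/
theorem lamCoord_smul (hlin : GLin.IsLinear k A ι) (lam : A →ₐc[k] k[T;T⁻¹]) (c : k) (w : ι → k) (i : ι) :
    ComodLib.lamCoord k A lam (c • w) i = c • ComodLib.lamCoord k A lam w i := by
  choose m hm using hlin
  show (lam : A →ₐ[k] k[T;T⁻¹]) (GLin.orbitHom k A _ _) = c • (lam : A →ₐ[k] k[T;T⁻¹]) (GLin.orbitHom k A _ _)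
  rw [ComodLib.orbitCoord_eq hm, ComodLib.orbitCoord_eq hm, ← map_smul]
  simp only [Pi.smul_apply, Finset.smul_sum, smul_smul, smul_eq_mul]

/-- Stability is insensitive to scaling. -/
theorem isStableVec_smul (hA : HopfRep.IsLinearlyReductive k A) (hlin : GLin.IsLinear k A ι) {c : k} (hc : c ≠ 0)
    {w : ι → k} (hw : w ≠ 0) (h : GLin.IsStableVec k A (c • w)) : GLin.IsStableVec k A w := by
  have hcw : c • w ≠ 0 := smul_ne_zero hc hw
  rw [HMGit.Small.isStableVec_iff hA hlin w hw]
  intro lam hnt m hm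
  refine (HMGit.Small.isStableVec_iff hA hlin _ hcw).mp h lam hnt m ?_
  rw [ComodLib.isMu_iff] at hm ⊢
  obtain ⟨h1, i, hi⟩ := hm
  refine ⟨fun j n hn => ?_, i, ?_⟩
  · rw [lamCoord_smul hlin, AddMonoidAlgebra.coeff_smul_apply, h1 j n hn, smul_zero]
  · rw [lamCoord_smul hlin, AddMonoidAlgebra.coeff_smul_apply, smul_eq_mul]
    exact mul_ne_zero hc hi

variable [_root_.IsReduced A]

/-- An invariant form of positive degree which does not vanish at a given stable semistable vector, and only at
stable vectors is non-zero. -/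
theorem exists_stable_form (hA : HopfRep.IsLinearlyReductive k A) (hlin : GLin.IsLinear k A ι) {v : ι → k}
    (hv : GLin.IsStableVec k A v) (hss : GLin.IsSemistableVec k A v) :
    ∃ (F : MvPolynomial ι k) (d : ℕ), F ∈ GLin.invariants k A (MvPolynomial ι k) ∧ 0 < d ∧ F.IsHomogeneous d ∧
      MvPolynomial.eval v F ≠ 0 ∧ ∀ w, MvPolynomial.eval w F ≠ 0 → GLin.IsStableVec k A w := by
  classical
  obtain ⟨α, hα, h1⟩ := ComodLib.exists_integral_of_isLinearlyReductive hA
  obtain ⟨S, hS, hSx⟩ := ComodLib.exists_fixed_cutting (A := A) (R := MvPolynomial ι k) hα h1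
  obtain ⟨f, hfS, hfv⟩ := (hSx _).mp ((ComodLib.isStablePt_iff _).mp hv)
  rw [GLin.vecPt, MvPolynomial.aeval_eq_eval] at hfv
  change MvPolynomial.eval v f ≠ 0 at hfv
  obtain ⟨e, he⟩ : ∃ e, MvPolynomial.eval v (MvPolynomial.homogeneousComponent e f) ≠ 0 := by
    by_contra! hall
    refine hfv ?_
    rw [← MvPolynomial.sum_homogeneousComponent f, map_sum]
    exact Finset.sum_eq_zero fun e _ => hall e
  simp only [GLin.IsSemistableVec, GLin.IsNullform, not_forall] at hss
  obtain ⟨F₀, hF₀, d, hd, hhom, hne⟩ := hss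
  refine ⟨MvPolynomial.homogeneousComponent e f * F₀, e + d,
    mul_mem (ComodLib.homogeneousComponent_mem_invariants hlin (hS hfS) e) hF₀, by omega,
    (MvPolynomial.homogeneousComponent_isHomogeneous e f).mul hhom, by rw [map_mul]; exact mul_ne_zero he hne,
    fun w hw => ?_⟩
  rw [map_mul] at hw
  by_contra hns
  refine left_ne_zero_of_mul hw ?_
  have hw0 : w ≠ 0 := by
    rintro rfl
    refine right_ne_zero_of_mul hw ?_
    rw [MvPolynomial.eval_zero, MvPolynomial.constantCoeff_eq]
    exact hhom.coeff_eq_zero (by simp; omega)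
  have hvan : ∀ c : k, c ≠ 0 → MvPolynomial.eval (c • w) f = 0 := fun c hc => by
    by_contra hcf
    refine hns (isStableVec_smul hA hlin hc hw0 ((ComodLib.isStablePt_iff _).mpr ((hSx _).mpr ⟨f, hfS, ?_⟩)))
    rw [GLin.vecPt, MvPolynomial.aeval_eq_eval]
    exact hcf
  let q : Polynomial k := ∑ j ∈ Finset.range (f.totalDegree + 1),
    Polynomial.C (MvPolynomial.eval w (MvPolynomial.homogeneousComponent j f)) * Polynomial.X ^ j
  have hq : q = 0 := by
    refine Polynomial.eq_zero_of_infinite_isRoot q (Set.Infinite.mono (fun c hc => ?_)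
      (Set.finite_singleton (0 : k)).infinite_compl)
    show q.eval c = 0
    rw [← hvan c hc]
    conv_rhs => rw [← MvPolynomial.sum_homogeneousComponent f, map_sum]
    simp only [q, Polynomial.eval_finsetSum, Polynomial.eval_mul, Polynomial.eval_C, Polynomial.eval_pow,
      Polynomial.eval_X]
    refine Finset.sum_congr rfl fun j _ => ?_
    rw [eval_smul_vec (MvPolynomial.homogeneousComponent_isHomogeneous j f), mul_comm]
  by_cases hef : e ∈ Finset.range (f.totalDegree + 1)
  · have := congrArg (Polynomial.coeff · e) hq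
    simpa [q, Polynomial.finsetSum_coeff, Polynomial.coeff_C_mul, Polynomial.coeff_X_pow, hef] using this
  · rw [MvPolynomial.homogeneousComponent_eq_zero _ _ (by simpa using hef), map_zero]

omit [_root_.IsReduced A] in
/-- Group points moving a bounded vector, at which a form of stable locus is a unit, to a bounded one are bounded. -/
theorem mem_of_bounded' (hA : HopfRep.IsLinearlyReductive k A) (hlin : GLin.IsLinear k A ι)
    {F : MvPolynomial ι k} (Z : Set (MvPolynomial ι k))
    (hst : ∀ w, (∀ P ∈ Z, MvPolynomial.eval w P = 0) → MvPolynomial.eval w F ≠ 0 →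
      w ≠ 0 ∧ GLin.IsStableVec k A w) {m : ι → ι → A}
    (hm : ∀ i, HopfRep.Comod.coact (k := k) (A := A) (MvPolynomial.X i : MvPolynomial ι k) =
      ∑ j, (MvPolynomial.X j : MvPolynomial ι k) ⊗ₜ[k] m i j)
    {K : Type u} [Field K] [Algebra k K] (V : ValuationSubring K) (hk : ∀ c : k, algebraMap k K c ∈ V)
    (ψ : A →ₐ[k] K) (w : ι → V) (hV : ∀ i, ∑ j, (w j : K) * ψ (m i j) ∈ V)
    (hZ : ∀ P ∈ Z, MvPolynomial.aeval (fun i => (w i : K)) P = 0)
    (hF : MvPolynomial.aeval (fun i => (w i : K)) F ∉ V.nonunits) (a : A) : ψ a ∈ V := by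
  classical
  by_contra ha
  obtain ⟨N, π, e, he, hπ, hoff, hme⟩ := HMGit.exists_embedding ι hlin
  have hme' : ∀ (i j : ι), π (CoordGrp.GLn.X (e j) (e i)) = m i j := fun i j => by
    have h := congrArg (fun z => TensorProduct.lid k A ((MvPolynomial.lcoeff k (Finsupp.single j 1)).rTensor A z))
      ((hme i).symm.trans (hm i))
    simpa [MvPolynomial.coeff_X', Finsupp.single_left_inj, Finset.sum_ite_eq'] using h
  let w' : Fin N → V := Function.extend e w 0
  have hrow : ∀ {C : Type u} [CommRing C] [Algebra k C] (φ : A →ₐ[k] C) (u : Fin N → C), (∀ q, q ∉ Set.range e → u q = 0) →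
      ∀ q, ∑ p, u p * φ (π (CoordGrp.GLn.X p q)) = ∑ j, u (e j) * φ (π (CoordGrp.GLn.X (e j) q)) := by
    intro C _ _ φ u hu q
    exact (Finset.sum_of_injOn e he.injOn (fun _ _ => Finset.mem_coe.mpr (Finset.mem_univ _))
      (fun p _ hp => by rw [hu p (by simpa using hp), zero_mul]) fun j _ => rfl).symm
  have hw'0 : ∀ q ∈ (Set.range e)ᶜ, w' q = 0 := fun q hq => by
    simp [w', Function.extend_apply' w (0 : Fin N → V) q (by simpa using hq)]
  obtain ⟨w₀, lam, hw₀, hO, hnt, hlim⟩ := exists_oneParam_family π hπ hA V hk ψ w' (fun q => by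
      show ∑ p, (w' p : K) * ψ (π (CoordGrp.GLn.X p q)) ∈ V
      rw [hrow ψ (fun p => (w' p : K)) (fun q hq => by rw [hw'0 q hq]; rfl) q]
      by_cases hq : q ∈ Set.range e
      · obtain ⟨i, rfl⟩ := hq
        simpa only [w', he.extend_apply, hme'] using hV i
      · rw [Finset.sum_eq_zero fun j _ => by rw [hoff j q hq, map_zero, mul_zero]]
        exact V.zero_mem)
    (MvPolynomial.rename e F) (by simpa [MvPolynomial.aeval_rename, Function.comp_def, w', he.extend_apply] using hF)
    (MvPolynomial.X '' (Set.range e)ᶜ ∪ MvPolynomial.rename e '' Z) (by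
      rintro _ (⟨q, hq, rfl⟩ | ⟨P, hP, rfl⟩)
      · rw [MvPolynomial.aeval_X, hw'0 q hq]
        rfl
      · simpa [MvPolynomial.aeval_rename, Function.comp_def, w', he.extend_apply] using hZ P hP) ha
  let u : ι → k := fun i => w₀ (e i)
  have hu : MvPolynomial.eval u F ≠ 0 := by rwa [MvPolynomial.eval_rename] at hw₀
  have huZ : ∀ P ∈ Z, MvPolynomial.eval u P = 0 := fun P hP => by
    have := hO _ (Or.inr ⟨P, hP, rfl⟩)
    rwa [MvPolynomial.eval_rename] at this
  have hu0 : u ≠ 0 := (hst u huZ hu).1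
  obtain ⟨μ, hμ, -⟩ := ComodLib.existsUnique_isMu (A := A) lam hu0
  obtain ⟨i, hi⟩ := ((ComodLib.isMu_iff lam u μ).mp hμ).2
  have hpos := (HMGit.Small.isStableVec_iff hA hlin u hu0).mp (hst u huZ hu).2 lam hnt μ hμ
  refine hi ?_
  have hc : ComodLib.lamCoord k A lam u i = HMGit.rowVec π (lam : A →ₐ[k] k[T;T⁻¹]) w₀ (e i) := by
    rw [HMGit.rowVec, hrow (lam : A →ₐ[k] k[T;T⁻¹]) (fun p => algebraMap k k[T;T⁻¹] (w₀ p))
      (fun q hq => by
        have := hO (MvPolynomial.X q) (Or.inl ⟨q, hq, rfl⟩)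
        rw [MvPolynomial.eval_X] at this
        rw [this, map_zero]) (e i)]
    show (lam : A →ₐ[k] k[T;T⁻¹]) (GLin.orbitHom k A _ _) = _
    rw [ComodLib.orbitCoord_eq hme, map_sum]
    exact Finset.sum_congr rfl fun j _ => by rw [map_smul, Algebra.smul_def]
  rw [hc]
  exact hlim _ _ (by omega)

omit [_root_.IsReduced A] in
/-- Group points moving a bounded vector, at which a form of stable locus is a unit, to a bounded one are bounded. -/
theorem mem_of_bounded (hA : HopfRep.IsLinearlyReductive k A) (hlin : GLin.IsLinear k A ι)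
    {F : MvPolynomial ι k} {d : ℕ} (hd : 0 < d) (hhom : F.IsHomogeneous d)
    (hst : ∀ w, MvPolynomial.eval w F ≠ 0 → GLin.IsStableVec k A w) {m : ι → ι → A}
    (hm : ∀ i, HopfRep.Comod.coact (k := k) (A := A) (MvPolynomial.X i : MvPolynomial ι k) =
      ∑ j, (MvPolynomial.X j : MvPolynomial ι k) ⊗ₜ[k] m i j)
    {K : Type u} [Field K] [Algebra k K] (V : ValuationSubring K) (hk : ∀ c : k, algebraMap k K c ∈ V)
    (ψ : A →ₐ[k] K) (w : ι → V) (hV : ∀ i, ∑ j, (w j : K) * ψ (m i j) ∈ V)
    (hF : MvPolynomial.aeval (fun i => (w i : K)) F ∉ V.nonunits) (a : A) : ψ a ∈ V := by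
  refine mem_of_bounded' hA hlin (F := F) ∅ (fun u _ hu => ⟨?_, hst u hu⟩) hm V hk ψ w hV (by simp) hF a
  rintro rfl
  rw [MvPolynomial.eval_zero, MvPolynomial.constantCoeff_eq] at hu
  exact hu (hhom.coeff_eq_zero (by simp; omega))

end Groth.Agent.HMAmple
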