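import Groth.Agent.HMAmple.Affine
import Groth.Prelude.Def_GLinSh

/-!
Quotients of weight functions of equal degree, and affineness of non-vanishing loci.
-/

set_option autoImplicit false
set_option linter.style.haveILetI false
set_option linter.unusedSectionVars false

universe u

open CategoryTheory CategoryTheory.Limits AlgebraicGeometry TopologicalSpace Opposite

namespace Groth.Agent.HMAmple

variable {S : Scheme.{u}} {V X : Over S} {π : V ⟶ X} (A : GLinSh.LinAtlas π)

theorem res_app {U W : X.left.Opens} (h : W ≤ U) (c : Γ(X.left, U)) :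
    GLinSh.res π h (π.left.app U c) = π.left.app W (X.left.presheaf.map (homOfLE h).op c) :=
  (ConcreteCategory.congr_hom (π.left.naturality (homOfLE h).op) c).symm

theorem res_resTop {U W : X.left.Opens} (h : W ≤ U) (f : Γ(V.left, ⊤)) :
    GLinSh.res π h (GLinSh.resTop π U f) = GLinSh.resTop π W f := by
  rw [GLinSh.res, GLinSh.resTop, GLinSh.resTop, ← CommRingCat.comp_apply, ← Functor.map_comp]
  rfl

theorem res_res {U W W' : X.left.Opens} (h : W ≤ U) (h' : W' ≤ W) (y : Γ(V.left, π.left ⁻¹ᵁ U)) :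
    GLinSh.res π h' (GLinSh.res π h y) = GLinSh.res π (h'.trans h) y := by
  rw [GLinSh.res, GLinSh.res, GLinSh.res, ← CommRingCat.comp_apply, ← Functor.map_comp]
  rfl

theorem res_relation {U W : X.left.Opens} (h : W ≤ U) {f : Γ(V.left, ⊤)} {y : Γ(V.left, π.left ⁻¹ᵁ U)}
    {c : Γ(X.left, U)} {n : ℕ} (hf : GLinSh.resTop π U f = π.left.app U c * y ^ n) :
    GLinSh.resTop π W f = π.left.app W (X.left.presheaf.map (homOfLE h).op c) * GLinSh.res π h y ^ n := by
  rw [← res_resTop h, hf]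
  simp only [GLinSh.res, map_mul, map_pow]
  exact congrArg (· * _) (res_app h c)

include A in
theorem coeff_unique {U : X.left.Opens} {y : Γ(V.left, π.left ⁻¹ᵁ U)} (hy : y ∈ A.chart U) {W : X.left.Opens}
    (hWU : W ≤ U) {c c' : Γ(X.left, W)} {n : ℕ}
    (h : π.left.app W c * GLinSh.res π hWU y ^ n = π.left.app W c' * GLinSh.res π hWU y ^ n) : c = c' := by
  refine X.left.sheaf.eq_of_locally_eq' (fun T : {T : X.left.affineOpens // T.1 ≤ W} => T.1.1) W
    (fun T => homOfLE T.2) (fun x hx => ?_) c c' fun T => ?_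
  · obtain ⟨T, hT, hxT, hTW⟩ := exists_isAffineOpen_mem_and_subset (x := x) (U := W) hx
    exact Opens.mem_iSup.mpr ⟨⟨⟨T, hT⟩, hTW⟩, hxT⟩
  · have h2 := congrArg (GLinSh.res π T.2) h
    simp only [GLinSh.res, map_mul, map_pow] at h2
    rw [show ∀ d, (V.left.presheaf.map (homOfLE (π.left.preimage_mono T.2)).op) (π.left.app W d) =
        π.left.app T.1.1 (X.left.presheaf.map (homOfLE T.2).op d) from res_app T.2] at h2
    rw [show ∀ d, (V.left.presheaf.map (homOfLE (π.left.preimage_mono T.2)).op) (π.left.app W d) =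
        π.left.app T.1.1 (X.left.presheaf.map (homOfLE T.2).op d) from res_app T.2] at h2
    have h3 := @(A.coord U y hy T.1.1 T.1.2 (T.2.trans hWU)).1 (Polynomial.monomial n (X.left.presheaf.map (homOfLE T.2).op c))
      (Polynomial.monomial n (X.left.presheaf.map (homOfLE T.2).op c')) (by
        simp only [Polynomial.coe_eval₂RingHom, Polynomial.eval₂_monomial]
        rw [← res_res hWU T.2]
        exact h2)
    exact Polynomial.monomial_injective n h3

include A in
theorem mem_nonvanishing_iff {n : ℕ} (hn : 1 ≤ n) {f : Γ(V.left, ⊤)} {U : X.left.Opens}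
    {y : Γ(V.left, π.left ⁻¹ᵁ U)} (hy : y ∈ A.chart U) {c : Γ(X.left, U)}
    (hc : GLinSh.resTop π U f = π.left.app U c * y ^ n) {x : X.left} (hx : x ∈ U) :
    x ∈ GLinSh.nonvanishing π f ↔ x ∈ X.left.basicOpen c := by
  have : IsAffineHom π.left := A.affine
  constructor
  · rintro ⟨q, hq, rfl⟩
    have h1 : q ∈ V.left.basicOpen (GLinSh.resTop π U f) := by
      rw [Scheme.basicOpen_res]; exact ⟨hx, hq⟩
    rw [hc, Scheme.basicOpen_mul, ← Scheme.preimage_basicOpen] at h1
    exact h1.1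
  · intro hxc
    obtain ⟨W, hW, hxW, hWc⟩ := exists_isAffineOpen_mem_and_subset (x := x) (U := X.left.basicOpen c) hxc
    have hWU : W ≤ U := le_trans hWc (X.left.basicOpen_le c)
    have hV : IsAffineOpen (π.left ⁻¹ᵁ W) := hW.preimage π.left
    let e := RingEquiv.ofBijective _ (A.coord U y hy W hW hWU)
    let g := GLinSh.res π hWU y
    let ev : Γ(V.left, π.left ⁻¹ᵁ W) ⟶ Γ(X.left, W) :=
      CommRingCat.ofHom ((Polynomial.evalRingHom 1).comp e.symm.toRingHom)
    have he : ∀ P, e.symm (Polynomial.eval₂RingHom (π.left.app W).hom g P) = P := fun P => e.symm_apply_apply P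
    have hev : π.left.appLE W (π.left ⁻¹ᵁ W) le_rfl ≫ ev = 𝟙 _ := by
      ext r
      have := he (Polynomial.C r)
      simp only [Polynomial.coe_eval₂RingHom, Polynomial.eval₂_C, π.left.app_eq_appLE] at this
      simp [ev, this]
    have hg : ev.hom g = 1 := by
      have := he Polynomial.X
      simp only [Polynomial.coe_eval₂RingHom, Polynomial.eval₂_X] at this
      show Polynomial.eval 1 (e.symm g) = 1
      rw [this, Polynomial.eval_X]
    let s : Spec Γ(X.left, W) ⟶ V.left := Spec.map ev ≫ hV.fromSpec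
    have hs : s ≫ π.left = hW.fromSpec := by
      rw [Category.assoc, ← hW.SpecMap_appLE_fromSpec π.left hV le_rfl, ← Category.assoc, ← Spec.map_comp, hev,
        Spec.map_id, Category.id_comp]
    obtain ⟨q, rfl⟩ : x ∈ Set.range hW.fromSpec := by rw [hW.range_fromSpec]; exact hxW
    have h1 : s q ∈ V.left.basicOpen g := by
      have : Spec.map ev q ∈ hV.fromSpec ⁻¹ᵁ V.left.basicOpen g := by
        rw [hV.fromSpec_preimage_basicOpen]
        show ev.hom g ∉ q.asIdeal
        rw [hg]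
        exact fun h => q.isPrime.ne_top (q.asIdeal.eq_top_iff_one.mpr h)
      exact this
    have hsx : π.left (s q) = hW.fromSpec q := by rw [← Scheme.Hom.comp_apply, hs]
    refine ⟨s q, ?_, hsx⟩
    rw [Scheme.basicOpen_res] at h1
    have h2 : s q ∈ V.left.basicOpen (GLinSh.resTop π U f) := by
      rw [hc, Scheme.basicOpen_mul, Scheme.basicOpen_pow _ _ (Nat.lt_of_lt_of_le Nat.zero_lt_one hn), ← Scheme.preimage_basicOpen]
      exact ⟨by show π.left (s q) ∈ X.left.basicOpen c; rw [hsx]; exact hxc, h1.2⟩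
    rw [Scheme.basicOpen_res] at h2
    exact h2.2

include A in
theorem isOpen_nonvanishing {n : ℕ} (hn : 1 ≤ n) {f : Γ(V.left, ⊤)} (hf : GLinSh.HasWeight A.chart n f) :
    IsOpen (GLinSh.nonvanishing π f) := by
  refine isOpen_iff_forall_mem_open.mpr fun x hx => ?_
  obtain ⟨U, hxU, y, hy⟩ := A.cover x
  obtain ⟨c, hc⟩ := hf U y hy
  exact ⟨X.left.basicOpen c, fun z hz => (mem_nonvanishing_iff A hn hy hc (X.left.basicOpen_le c hz)).mpr hz,
    (X.left.basicOpen c).isOpen, (mem_nonvanishing_iff A hn hy hc hxU).mp hx⟩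

/-- The non-vanishing locus as an open subscheme. -/
def nzOpen {n : ℕ} (hn : 1 ≤ n) {f : Γ(V.left, ⊤)} (hf : GLinSh.HasWeight A.chart n f) : X.left.Opens :=
  ⟨GLinSh.nonvanishing π f, isOpen_nonvanishing A hn hf⟩

theorem nzOpen_inf {n : ℕ} (hn : 1 ≤ n) {f : Γ(V.left, ⊤)} (hf : GLinSh.HasWeight A.chart n f) {U : X.left.Opens}
    {y : Γ(V.left, π.left ⁻¹ᵁ U)} (hy : y ∈ A.chart U) {c : Γ(X.left, U)}
    (hc : GLinSh.resTop π U f = π.left.app U c * y ^ n) : U ⊓ nzOpen A hn hf = X.left.basicOpen c :=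
  Opens.ext (Set.ext fun x => ⟨fun hx => (mem_nonvanishing_iff A hn hy hc hx.1).mp hx.2,
    fun hx => ⟨X.left.basicOpen_le c hx, (mem_nonvanishing_iff A hn hy hc (X.left.basicOpen_le c hx)).mpr hx⟩⟩)

/-- A function `b` on the locus of `g` is the quotient `f / g`. -/
def IsRatio (n : ℕ) (f g : Γ(V.left, ⊤)) (T : X.left.Opens) (b : Γ(X.left, T)) : Prop :=
  ∀ (U : X.left.Opens) (y : Γ(V.left, π.left ⁻¹ᵁ U)), y ∈ A.chart U → ∀ cf cg : Γ(X.left, U),
    GLinSh.resTop π U f = π.left.app U cf * y ^ n → GLinSh.resTop π U g = π.left.app U cg * y ^ n →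
      X.left.presheaf.map (homOfLE (inf_le_right : U ⊓ T ≤ T)).op b *
        X.left.presheaf.map (homOfLE (inf_le_left : U ⊓ T ≤ U)).op cg =
      X.left.presheaf.map (homOfLE (inf_le_left : U ⊓ T ≤ U)).op cf

theorem map_map {U W W' : X.left.Opens} (h : W ≤ U) (h' : W' ≤ W) (c : Γ(X.left, U)) :
    X.left.presheaf.map (homOfLE h').op (X.left.presheaf.map (homOfLE h).op c) =
      X.left.presheaf.map (homOfLE (h'.trans h)).op c := by
  rw [← CommRingCat.comp_apply, ← Functor.map_comp]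
  rfl

theorem isUnit_res {n : ℕ} (hn : 1 ≤ n) {g : Γ(V.left, ⊤)} (hg : GLinSh.HasWeight A.chart n g) {U : X.left.Opens}
    {y : Γ(V.left, π.left ⁻¹ᵁ U)} (hy : y ∈ A.chart U) {c : Γ(X.left, U)}
    (hc : GLinSh.resTop π U g = π.left.app U c * y ^ n) {W : X.left.Opens} (hW : W ≤ U ⊓ nzOpen A hn hg) :
    IsUnit (X.left.presheaf.map (homOfLE (hW.trans inf_le_left)).op c) := by
  have h2 : W ≤ X.left.basicOpen c := hW.trans (nzOpen_inf A hn hg hy hc).le
  rw [← map_map (X.left.basicOpen_le c) h2]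
  exact (RingedSpace.isUnit_res_basicOpen X.left.toLocallyRingedSpace.toRingedSpace c).map _

include A in
/-- The coefficients of two weight functions in two charts have the same quotient. -/
theorem cross_eq {n : ℕ} {f g : Γ(V.left, ⊤)} {U U' : X.left.Opens} {y : Γ(V.left, π.left ⁻¹ᵁ U)}
    {y' : Γ(V.left, π.left ⁻¹ᵁ U')} (hy : y ∈ A.chart U) (hy' : y' ∈ A.chart U') {cf cg : Γ(X.left, U)}
    (hcf : GLinSh.resTop π U f = π.left.app U cf * y ^ n) (hcg : GLinSh.resTop π U g = π.left.app U cg * y ^ n)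
    {cf' cg' : Γ(X.left, U')} (hcf' : GLinSh.resTop π U' f = π.left.app U' cf' * y' ^ n)
    (hcg' : GLinSh.resTop π U' g = π.left.app U' cg' * y' ^ n) :
    X.left.presheaf.map (homOfLE (inf_le_left : U ⊓ U' ≤ U)).op cf *
        X.left.presheaf.map (homOfLE (inf_le_right : U ⊓ U' ≤ U')).op cg' =
      X.left.presheaf.map (homOfLE (inf_le_left : U ⊓ U' ≤ U)).op cg *
        X.left.presheaf.map (homOfLE (inf_le_right : U ⊓ U' ≤ U')).op cf' := by
  obtain ⟨c, -, hc⟩ := A.linear U U' y y' hy hy'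
  have key : ∀ {h : Γ(V.left, ⊤)} {d : Γ(X.left, U)} {d' : Γ(X.left, U')},
      GLinSh.resTop π U h = π.left.app U d * y ^ n → GLinSh.resTop π U' h = π.left.app U' d' * y' ^ n →
      X.left.presheaf.map (homOfLE (inf_le_left : U ⊓ U' ≤ U)).op d =
        X.left.presheaf.map (homOfLE (inf_le_right : U ⊓ U' ≤ U')).op d' * c ^ n := by
    intro h d d' hd hd'
    refine coeff_unique A hy (inf_le_left : U ⊓ U' ≤ U) (n := n) ?_
    rw [← res_relation inf_le_left hd, res_relation inf_le_right hd', hc, map_mul, map_pow, mul_pow]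
    ring
  rw [key hcf hcf', key hcg hcg']
  ring

include A in
theorem exists_ratio {n : ℕ} (hn : 1 ≤ n) {f g : Γ(V.left, ⊤)} (hf : GLinSh.HasWeight A.chart n f)
    (hg : GLinSh.HasWeight A.chart n g) : ∃ b, IsRatio A n f g (nzOpen A hn hg) b := by
  let T := nzOpen A hn hg
  let I := {p : Σ U : X.left.Opens, Γ(V.left, π.left ⁻¹ᵁ U) // p.2 ∈ A.chart p.1}
  choose cf hcf using fun i : I => hf i.1.1 i.1.2 i.2
  choose cg hcg using fun i : I => hg i.1.1 i.1.2 i.2
  let W : I → X.left.Opens := fun i => i.1.1 ⊓ T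
  have hunit : ∀ i : I, IsUnit (X.left.presheaf.map (homOfLE (inf_le_left : W i ≤ i.1.1)).op (cg i)) := fun i =>
    isUnit_res A hn hg i.2 (hcg i) le_rfl
  let sf : ∀ i : I, Γ(X.left, W i) := fun i =>
    X.left.presheaf.map (homOfLE (inf_le_left : W i ≤ i.1.1)).op (cf i) * ((hunit i).unit⁻¹ : (Γ(X.left, W i))ˣ)
  have hsf : ∀ i : I, sf i * X.left.presheaf.map (homOfLE (inf_le_left : W i ≤ i.1.1)).op (cg i) =
      X.left.presheaf.map (homOfLE (inf_le_left : W i ≤ i.1.1)).op (cf i) := fun i => by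
    rw [mul_assoc, IsUnit.val_inv_mul, mul_one]
  have hcompat : TopCat.Presheaf.IsCompatible X.left.presheaf W sf := by
    intro i j
    have hi : W i ⊓ W j ≤ W i := inf_le_left
    have hj : W i ⊓ W j ≤ W j := inf_le_right
    have hij : W i ⊓ W j ≤ i.1.1 ⊓ j.1.1 := inf_le_inf inf_le_left inf_le_left
    show X.left.presheaf.map (homOfLE hi).op (sf i) = X.left.presheaf.map (homOfLE hj).op (sf j)
    have e1 := congrArg (X.left.presheaf.map (homOfLE hi).op) (hsf i)
    have e2 := congrArg (X.left.presheaf.map (homOfLE hj).op) (hsf j)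
    have e3 := congrArg (X.left.presheaf.map (homOfLE hij).op)
      (cross_eq A i.2 j.2 (hcf i) (hcg i) (hcf j) (hcg j))
    simp only [map_mul, map_map] at e1 e2 e3
    have u1 := isUnit_res A hn hg i.2 (hcg i) (W := W i ⊓ W j) hi
    have u2 := isUnit_res A hn hg j.2 (hcg j) (W := W i ⊓ W j) hj
    refine (u1.mul u2).mul_right_cancel ?_
    rw [← mul_assoc, e1, e3, mul_left_comm, e2]
  obtain ⟨b, hb, -⟩ := X.left.sheaf.existsUnique_gluing' W T (fun i => homOfLE inf_le_right)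
    (fun x hx => by
      obtain ⟨U, hxU, y, hy⟩ := A.cover x
      exact Opens.mem_iSup.mpr ⟨⟨⟨U, y⟩, hy⟩, hxU, hx⟩) sf hcompat
  refine ⟨b, fun U y hy c c' hc hc' => ?_⟩
  have hb' : X.left.presheaf.map (homOfLE (inf_le_right : U ⊓ T ≤ T)).op b = sf ⟨⟨U, y⟩, hy⟩ := hb ⟨⟨U, y⟩, hy⟩
  rw [hb']
  have e1 : c = cf ⟨⟨U, y⟩, hy⟩ := coeff_unique A hy le_rfl (n := n) (by
    simp only [GLinSh.res, homOfLE_refl, op_id, CategoryTheory.Functor.map_id]
    exact hc.symm.trans (hcf ⟨⟨U, y⟩, hy⟩))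
  have e2 : c' = cg ⟨⟨U, y⟩, hy⟩ := coeff_unique A hy le_rfl (n := n) (by
    simp only [GLinSh.res, homOfLE_refl, op_id, CategoryTheory.Functor.map_id]
    exact hc'.symm.trans (hcg ⟨⟨U, y⟩, hy⟩))
  rw [e1, e2]
  exact hsf ⟨⟨U, y⟩, hy⟩

include A in
theorem basicOpen_ratio {n : ℕ} (hn : 1 ≤ n) {f g : Γ(V.left, ⊤)} (hf : GLinSh.HasWeight A.chart n f)
    (hg : GLinSh.HasWeight A.chart n g) {b : Γ(X.left, nzOpen A hn hg)}
    (hb : IsRatio A n f g (nzOpen A hn hg) b) : X.left.basicOpen b = nzOpen A hn hg ⊓ nzOpen A hn hf := by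
  refine Opens.ext (Set.ext fun x => ?_)
  show x ∈ X.left.basicOpen b ↔ x ∈ nzOpen A hn hg ⊓ nzOpen A hn hf
  obtain ⟨U, hxU, y, hy⟩ := A.cover x
  obtain ⟨cf, hcf⟩ := hf U y hy
  obtain ⟨cg, hcg⟩ := hg U y hy
  have h := congrArg (fun s => x ∈ X.left.basicOpen s) (hb U y hy cf cg hcf hcg)
  simp only [Scheme.basicOpen_mul, Scheme.basicOpen_res, eq_iff_iff] at h
  rw [← nzOpen_inf A hn hg hy hcg, ← nzOpen_inf A hn hf hy hcf] at h
  have hle : x ∈ X.left.basicOpen b → x ∈ nzOpen A hn hg := fun hx => X.left.basicOpen_le b hx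
  simp only [Opens.mem_inf] at h ⊢
  tauto

include A in
/-- The non-vanishing locus of a weight function is affine when weight functions of the same degree with affine
non-vanishing loci cover a universally closed base. -/
theorem isAffineOpen_nzOpen {R : CommRingCat.{u}} (p : X.left ⟶ Spec R) [UniversallyClosed p] {n : ℕ} (hn : 1 ≤ n)
    {f : Γ(V.left, ⊤)} (hf : GLinSh.HasWeight A.chart n f) {ι : Type*} [Finite ι] (g : ι → Γ(V.left, ⊤))
    (hg : ∀ i, GLinSh.HasWeight A.chart n (g i)) (hga : ∀ i, IsAffineOpen (nzOpen A hn (hg i)))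
    (hcov : ∀ x : X.left, ∃ i, x ∈ GLinSh.nonvanishing π (g i)) : IsAffineOpen (nzOpen A hn hf) := by
  choose a ha using fun i => exists_ratio A hn (hg i) hf
  choose b hb using fun i => exists_ratio A hn hf (hg i)
  refine isAffineOpen_of_ratios p (fun i => nzOpen A hn (hg i)) hga (fun x => hcov x) _ a b
    (fun i => by rw [basicOpen_ratio A hn (hg i) hf (ha i)])
    (fun i => by rw [basicOpen_ratio A hn hf (hg i) (hb i), inf_comm]) fun i => ?_
  let F := nzOpen A hn hf
  let T := nzOpen A hn (hg i)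
  let J := {p : Σ U : X.left.Opens, Γ(V.left, π.left ⁻¹ᵁ U) // p.2 ∈ A.chart p.1}
  refine X.left.sheaf.eq_of_locally_eq' (fun j : J => j.1.1 ⊓ (F ⊓ T)) (F ⊓ T) (fun j => homOfLE inf_le_right)
    (fun x hx => ?_) _ _ fun j => ?_
  · obtain ⟨U, hxU, y, hy⟩ := A.cover x
    exact Opens.mem_iSup.mpr ⟨⟨⟨U, y⟩, hy⟩, hxU, hx⟩
  · obtain ⟨⟨U, y⟩, hy⟩ := j
    obtain ⟨cf, hcf⟩ := hf U y hy
    obtain ⟨cg, hcg⟩ := hg i U y hy
    have e1 := congrArg (X.left.presheaf.map (homOfLE (inf_le_inf_left U inf_le_left : U ⊓ (F ⊓ T) ≤ U ⊓ F)).op)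
      (ha i U y hy cg cf hcg hcf)
    have e2 := congrArg (X.left.presheaf.map (homOfLE (inf_le_inf_left U inf_le_right : U ⊓ (F ⊓ T) ≤ U ⊓ T)).op)
      (hb i U y hy cf cg hcf hcg)
    have u1 := isUnit_res A hn hf hy hcf (W := U ⊓ (F ⊓ T)) (inf_le_inf_left U inf_le_left)
    have u2 := isUnit_res A hn (hg i) hy hcg (W := U ⊓ (F ⊓ T)) (inf_le_inf_left U inf_le_right)
    show X.left.presheaf.map (homOfLE inf_le_right).op _ = X.left.presheaf.map (homOfLE inf_le_right).op 1
    simp only [map_mul, map_one, map_map] at e1 e2 ⊢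
    refine (u1.mul u2).mul_right_cancel ?_
    rw [one_mul, mul_mul_mul_comm, e1, e2, mul_comm]

end Groth.Agent.HMAmple
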