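import Groth.Agent.HMAmple.Data
import Groth.Agent.SmoothFormLib.Valuative
import Mathlib.AlgebraicGeometry.Morphisms.Finite

/-!
Finiteness of orbit maps over the non-vanishing locus of an invariant form from boundedness on vectors.
-/

set_option autoImplicit false
set_option linter.unusedSectionVars false
set_option linter.style.haveILetI false
set_option backward.isDefEq.respectTransparency false
set_option backward.isDefEq.respectTransparency.types false

universe u

open CategoryTheory CategoryTheory.Limits MonoidalCategory CartesianMonoidalCategory MonObj GrpObj AlgebraicGeometry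
open Opposite TopologicalSpace WithConv
open Groth.Agent.GrpSchLib.Kunneth (Fn ev pullFn)
open Groth.Agent.GrpSchLib.AffineHopf (sp spMap)

namespace Groth.Agent.HMAmple

section Ratio

variable {S : Scheme.{u}} {V X : Over S} {π : V ⟶ X} (A : GLinSh.LinAtlas π)

include A in
/-- On the locus of `g` a weight function is a function of the base times `g`. -/
theorem exists_eq_mul {n : ℕ} (hn : 1 ≤ n) {f g : Γ(V.left, ⊤)} (hf : GLinSh.HasWeight A.chart n f)
    (hg : GLinSh.HasWeight A.chart n g) : ∃ b : Γ(X.left, nzOpen A hn hg),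
      GLinSh.resTop π (nzOpen A hn hg) f =
        π.left.app (nzOpen A hn hg) b * GLinSh.resTop π (nzOpen A hn hg) g := by
  obtain ⟨b, hb⟩ := exists_ratio A hn hf hg
  refine ⟨b, ?_⟩
  let T := nzOpen A hn hg
  let J := {p : Σ U : X.left.Opens, Γ(V.left, π.left ⁻¹ᵁ U) // p.2 ∈ A.chart p.1}
  refine V.left.sheaf.eq_of_locally_eq' (fun j : J => π.left ⁻¹ᵁ (j.1.1 ⊓ T)) (π.left ⁻¹ᵁ T)
    (fun j => homOfLE (π.left.preimage_mono inf_le_right)) (fun x hx => ?_) _ _ fun j => ?_
  · obtain ⟨U, hxU, y, hy⟩ := A.cover (π.left.base x)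
    exact Opens.mem_iSup.mpr ⟨⟨⟨U, y⟩, hy⟩, hxU, hx⟩
  · obtain ⟨⟨U, y⟩, hy⟩ := j
    obtain ⟨cf, hcf⟩ := hf U y hy
    obtain ⟨cg, hcg⟩ := hg U y hy
    show GLinSh.res π inf_le_right (GLinSh.resTop π T f) =
      GLinSh.res π inf_le_right (π.left.app T b * GLinSh.resTop π T g)
    rw [res_resTop, res_relation inf_le_left hcf,
      show GLinSh.res π (inf_le_right : U ⊓ T ≤ T) (π.left.app T b * GLinSh.resTop π T g) =
        GLinSh.res π inf_le_right (π.left.app T b) * GLinSh.res π inf_le_right (GLinSh.resTop π T g) from map_mul _ _ _,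
      res_resTop, res_relation inf_le_left hcg, res_app, ← _root_.mul_assoc, ← map_mul, hb U y hy cf cg hcf hcg]

end Ratio

open HMSec

variable {k : Type u} [Field k]

section Val

variable {Y Z X : Over (Spec (CommRingCat.of k))}

/-- The pullback of a section on an open containing the image of a test object. -/
noncomputable def oval (p : Y ⟶ Z) (U : Z.left.Opens) (h : ⊤ ≤ p.left ⁻¹ᵁ U) : Γ(Z.left, U) →+* Fn Y :=
  (p.left.appLE U ⊤ h).hom

theorem oval_congr {p q : Y ⟶ Z} (e : p = q) (U : Z.left.Opens) (h : ⊤ ≤ p.left ⁻¹ᵁ U)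
    (h' : ⊤ ≤ q.left ⁻¹ᵁ U) : oval p U h = oval q U h' := by subst e; rfl

theorem oval_top (p : Y ⟶ Z) (h : ⊤ ≤ p.left ⁻¹ᵁ ⊤) (f : Fn Z) : oval p ⊤ h f = ev p f := by
  show (p.left.appLE ⊤ ⊤ h).hom f = _
  rw [HMSec.appLE_top]
  rfl

theorem oval_res (p : Y ⟶ Z) {U W : Z.left.Opens} (hWU : W ≤ U) (hW : ⊤ ≤ p.left ⁻¹ᵁ W) (s : Γ(Z.left, U)) :
    oval p W hW (Z.left.presheaf.map (homOfLE hWU).op s) = oval p U (hW.trans (p.left.preimage_mono hWU)) s :=
  ConcreteCategory.congr_hom (p.left.map_appLE hW (homOfLE hWU).op) s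

theorem oval_comp (p : Y ⟶ Z) (g : Z ⟶ X) (U : X.left.Opens) (h : ⊤ ≤ (p ≫ g).left ⁻¹ᵁ U)
    (h' : ⊤ ≤ p.left ⁻¹ᵁ (g.left ⁻¹ᵁ U)) (s : Γ(X.left, U)) :
    oval (p ≫ g) U h s = oval p (g.left ⁻¹ᵁ U) h' (g.left.app U s) := by
  have e : (p.left ≫ g.left).appLE U ⊤ h = g.left.app U ≫ p.left.appLE _ ⊤ h' := by
    rw [← Scheme.Hom.appLE_comp_appLE p.left g.left U (g.left ⁻¹ᵁ U) ⊤ le_rfl h', Scheme.Hom.app_eq_appLE]
  exact ConcreteCategory.congr_hom e s

end Val

/-- Over a field, a weight function is a unit at a non-zero vector over its non-vanishing locus. -/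
theorem isUnit_pullFn {G X : Over (Spec (CommRingCat.of k))} [GrpObj G] {a : AlgGrp.Action G X}
    (B : GLinSh.LinBun G a) {n : ℕ} (hn : 1 ≤ n) {f : Fn B.V} (hf : GLinSh.HasWeight B.atlas.chart n f)
    {R : Type u} [CommRing R] [Algebra k R] [IsLocalRing R] (v : VecGrp.pt k R ⟶ B.V) (hv : Gd B v)
    (hx : (v ≫ B.π).left.base (IsLocalRing.closedPoint R) ∈ GLinSh.nonvanishing B.π f) : IsUnit (pullFn v f) := by
  obtain ⟨U, y, hy, hU⟩ := exists_chart B (v ≫ B.π)
  obtain ⟨c, hc, hc'⟩ := pullFn_weight B hf hy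
  have hxU : (v ≫ B.π).left.base (IsLocalRing.closedPoint R) ∈ U := hU trivial
  have hxc := (mem_nonvanishing_iff B.atlas hn hy hc hxU).mp hx
  have h2 : ⊤ ≤ (v ≫ B.π).left ⁻¹ᵁ X.left.basicOpen c := top_le_of_closedPoint _ hxc
  have h1 : IsUnit (lval (v ≫ B.π) U hU c) := by
    rw [← lval_res (v ≫ B.π) (X.left.basicOpen_le c) h2]
    exact (RingedSpace.isUnit_res_basicOpen X.left.toLocallyRingedSpace.toRingedSpace c).map (lval _ _ h2)
  rw [hc' R v hU]
  exact h1.mul ((hv U y hy hU).pow n)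

variable [IsAlgClosed k] {G X : Over (Spec (CommRingCat.of k))} [GrpObj G] {a : AlgGrp.Action G X}
  (B : GLinSh.LinBun G a) [IsProper X.hom] [QuasiCompact G.hom] [IsSeparated G.hom] [IsReduced G.left]
  [LocallyOfFiniteType G.hom] [IsAffine G.left] {A : Type u} [CommRing A] [HopfAlgebra k A] [Algebra.FiniteType k A]
  [_root_.IsReduced A] (e : Grp.mk (sp k A) ≅ Grp.mk G) (D : Data B) {F : MvPolynomial (Fin D.n) k} {d : ℕ}

include e in
theorem pullFn_univA_surjective (α : A) : ∃ β : Fn G, pullFn (univA e) β = α := by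
  have h : univA e ≫ e.inv.hom.hom = 𝟙 _ := congrArg (fun k => k.hom.hom) e.hom_inv_id
  refine ⟨ev e.inv.hom.hom ((Scheme.ΓSpecIso (CommRingCat.of A)).inv α), ?_⟩
  rw [GrpSchLib.Kunneth.pullFn_apply, GrpSchLib.Kunneth.ev_ev, h]
  exact Iso.inv_hom_id_apply (Scheme.ΓSpecIso (CommRingCat.of A)) α

/-- Orbit maps over an affine test object are finite over the locus of an invariant form with bounded orbits. -/
theorem isFinite_psi_restrict (hd : 0 < d) (hhom : F.IsHomogeneous d)
    (hinv : GLinSh.IsInvFn B.lift (MvPolynomial.aeval D.f F))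
    (hb : ∀ (K : Type u) [Field K] [Algebra k K] (V : ValuationSubring K), (∀ c : k, algebraMap k K c ∈ V) →
      ∀ (ψ : A →ₐ[k] K) (w : Fin D.n → V), (∀ i, ∑ j, (w j : K) * ψ (pullFn (univA e) (D.M i j)) ∈ V) →
        MvPolynomial.aeval (fun i => (w i : K)) F ∉ V.nonunits → ∀ α, ψ α ∈ V)
    {U : X.left.Opens} (hU : (U : Set X.left) = GLinSh.nonvanishing B.π (MvPolynomial.aeval D.f F))
    (hUa : IsAffineOpen U) {T : Over (Spec (CommRingCat.of k))} [IsAffine T.left] (vT : T ⟶ B.V)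
    (hvT : IsUnit (ev vT (MvPolynomial.aeval D.f F))) :
    IsFinite ((GIT.psi a (vT ≫ B.π)).left ∣_ ((fst X T).left ⁻¹ᵁ U)) := by
  haveI hqs := quasiCompact_isSeparated B
  haveI := hqs.1
  haveI := hqs.2
  haveI : IsAffineHom T.hom := inferInstance
  haveI : IsAffineHom G.hom := inferInstance
  haveI : QuasiCompact T.hom := inferInstance
  haveI : IsSeparated T.hom := inferInstance
  set φ := MvPolynomial.aeval D.f F with hφ
  let q := vT ≫ B.π
  let W := (fst X T).left ⁻¹ᵁ U
  let u : G ⊗ T ⟶ B.V := lift (fst G T) (snd G T ≫ vT) ≫ B.lift.act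
  have huπ : u ≫ B.π = GIT.psi a q ≫ fst X T := by
    rw [GIT.psi, lift_fst]
    show (lift (fst G T) (snd G T ≫ vT) ≫ B.lift.act) ≫ B.π = (G ◁ q) ≫ a.act
    rw [HMSec.act_π, Category.assoc]
    congr 1
  have huφ : ev u φ = ev (snd G T) (ev vT φ) := by
    have h : ev B.lift.act φ = ev (snd G B.V) φ := hinv
    rw [← GrpSchLib.Kunneth.ev_ev, h, GrpSchLib.Kunneth.ev_ev, lift_snd, GrpSchLib.Kunneth.ev_ev]
  have hunit : IsUnit (ev u φ) := huφ ▸ hvT.map (ev (snd G T))
  have hW : ⊤ ≤ (GIT.psi a q).left ⁻¹ᵁ W := fun y _ => by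
    show (GIT.psi a q ≫ fst X T).left.base y ∈ (U : Set X.left)
    rw [← huπ, hU]
    refine ⟨u.left.base y, ?_, rfl⟩
    have h2 : u.left ⁻¹ᵁ B.V.left.basicOpen φ = ⊤ := by
      rw [Scheme.preimage_basicOpen]
      exact Scheme.basicOpen_of_isUnit _ hunit
    exact h2.ge trivial
  haveI : IsAffineHom (fst X T).left := (MorphismProperty.pullback_fst X.hom T.hom (inferInstanceAs (IsAffineHom T.hom)) : IsAffineHom (pullback.fst X.hom T.hom))
  have hWa : IsAffineOpen W := hUa.preimage (fst X T).left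
  haveI : IsAffine W.toScheme := hWa
  haveI : IsAffineHom (snd G T).left := (MorphismProperty.pullback_snd G.hom T.hom (inferInstanceAs (IsAffineHom G.hom)) : IsAffineHom (pullback.snd G.hom T.hom))
  haveI : IsAffine (G ⊗ T).left := isAffine_of_isAffineHom (snd G T).left
  let θ : Γ((X ⊗ T).left, W) →+* Fn (G ⊗ T) := oval (GIT.psi a q) W hW
  have hsnd : ∀ s : Fn T, ev (snd G T) s ∈ θ.range := fun s => by
    refine ⟨(X ⊗ T).left.presheaf.map (homOfLE le_top).op (ev (snd X T) s), ?_⟩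
    show oval _ W hW _ = _
    rw [oval_res _ le_top hW, oval_top, GrpSchLib.Kunneth.ev_ev]
    congr 2
    exact lift_snd _ _
  have hint : θ.IsIntegral := fun z => by
    refine SmoothFormLib.isIntegralElem_of_valuation θ z fun K _ ρ V hρ => ?_
    letI : Algebra k K := (ρ.comp (algebraMap k (Fn (G ⊗ T)))).toAlgebra
    let ρa : Fn (G ⊗ T) →ₐ[k] K := ⟨ρ, fun _ => rfl⟩
    have hS : ∀ s : Fn T, ρ (ev (snd G T) s) ∈ V := fun s => by
      obtain ⟨r, hr⟩ := hsnd s
      rw [← hr]
      exact hρ r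
    have hk : ∀ c : k, algebraMap k K c ∈ V := fun c => by
      have := hS (algebraMap k (Fn T) c)
      rwa [AlgHom.commutes] at this
    let invE : A →ₐ[k] Fn G :=
      (ev e.inv.hom.hom).comp ⟨(Scheme.ΓSpecIso (CommRingCat.of A)).inv.hom, fun c => by
        show (Scheme.ΓSpecIso (CommRingCat.of A)).inv (algebraMap k A c) = _
        exact ((pullFn (𝟙 (VecGrp.pt k A))).commutes c ▸ (Iso.hom_inv_id_apply (Scheme.ΓSpecIso (CommRingCat.of A)) _) :)⟩
    have hinvE : ∀ β : Fn G, invE (pullFn (univA e) β) = β := fun β => by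
      show ev e.inv.hom.hom ((Scheme.ΓSpecIso (CommRingCat.of A)).inv ((Scheme.ΓSpecIso (CommRingCat.of A)).hom (ev (univA e) β))) = β
      rw [Iso.hom_inv_id_apply (Scheme.ΓSpecIso (CommRingCat.of A))]
      exact (GrpSchLib.Kunneth.ev_ev e.inv.hom.hom (univA e) β).trans
        ((congrArg (fun g => ev g β) (show e.inv.hom.hom ≫ e.hom.hom.hom = 𝟙 _ from
          congrArg (fun k => k.hom.hom) e.inv_hom_id)).trans (GrpSchLib.Kunneth.ev_id β))
    let ψ : A →ₐ[k] K := ρa.comp ((ev (fst G T)).comp invE)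
    let w : Fin D.n → V := fun i => ⟨ρ (ev (snd G T) (ev vT (D.f i))), hS _⟩
    have hwF : MvPolynomial.aeval (fun i => (w i : K)) F = ρ (ev (snd G T) (ev vT φ)) := by
      rw [hφ]
      exact (AlgHom.congr_fun (MvPolynomial.comp_aeval D.f (ρa.comp ((ev (snd G T)).comp (ev vT)))) F).symm
    have hFu : MvPolynomial.aeval (fun i => (w i : K)) F ∉ V.nonunits := by
      obtain ⟨t, ht⟩ := hvT
      rw [hwF, ← ht]
      intro hmem
      have h1 : (⟨_, hS (t : Fn T)⟩ : V) * ⟨_, hS ((t⁻¹ : (Fn T)ˣ) : Fn T)⟩ = 1 :=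
        Subtype.ext (by
          show ρ (ev (snd G T) _) * ρ (ev (snd G T) _) = 1
          rw [← map_mul, ← map_mul, Units.mul_inv, map_one, map_one])
      exact (ValuationSubring.coe_mem_nonunits_iff (a := ⟨_, hS (t : Fn T)⟩)).mp hmem
        (IsUnit.of_mul_eq_one _ h1)
    have hbd : ∀ i, ∑ j, (w j : K) * ψ (pullFn (univA e) (D.M i j)) ∈ V := fun i => by
      have h1 : ∑ j, (w j : K) * ψ (pullFn (univA e) (D.M i j)) = ρ (ev u (D.f i)) := by
        rw [← GrpSchLib.Kunneth.ev_ev, ev_act B.lift D.f D.M D.stable i, map_sum, map_sum]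
        refine Finset.sum_congr rfl fun j _ => ?_
        rw [map_mul, map_mul, GrpSchLib.Kunneth.ev_ev, GrpSchLib.Kunneth.ev_ev, lift_fst, lift_snd, _root_.mul_comm]
        refine congrArg₂ (· * ·) ?_ (congrArg ρ (GrpSchLib.Kunneth.ev_ev _ _ _))
        show ρ (ev (fst G T) (invE (pullFn (univA e) (D.M i j)))) = _
        rw [hinvE]
      rw [h1]
      refine SmoothFormLib.mem_of_pow_mem V hd ?_
      have hn : 1 ≤ D.deg * d := Nat.mul_pos D.deg_pos hd
      have hwf : GLinSh.HasWeight B.atlas.chart (D.deg * d) (D.f i ^ d) :=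
        hasWeight_of_isHomL B ((isHomL_of_hasWeight B (D.weight i)).pow' B d)
      have hwφ := hasWeight_of_isHomL B (D.isHomL_aeval hhom)
      obtain ⟨b, hb'⟩ := exists_eq_mul B.atlas hn hwf hwφ
      have hUT : nzOpen B.atlas hn hwφ = U := Opens.ext hU.symm
      let T' := nzOpen B.atlas hn hwφ
      have h' : ⊤ ≤ u.left ⁻¹ᵁ (B.π.left ⁻¹ᵁ T') := fun y _ => by
        show (u ≫ B.π).left.base y ∈ (T' : Set X.left)
        rw [huπ, show T' = U from hUT]
        exact hW (Set.mem_univ y)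
      have hx := congrArg (oval u _ h') hb'
      rw [map_mul, ← oval_comp u B.π T' h' h' b] at hx
      have key : ∀ f : Fn B.V, oval u (B.π.left ⁻¹ᵁ T') h' (GLinSh.resTop B.π T' f) = ev u f := fun f =>
        (oval_res u le_top h' f).trans (oval_top _ _ _)
      rw [key, key, map_pow, ← hφ] at hx
      have h2 : ⊤ ≤ (GIT.psi a q).left ⁻¹ᵁ ((fst X T).left ⁻¹ᵁ T') := fun y _ => by
        show (GIT.psi a q ≫ fst X T).left.base y ∈ (T' : Set X.left)
        rw [show T' = U from hUT]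
        exact hW (Set.mem_univ y)
      rw [oval_congr huπ T' h' h2, oval_comp (GIT.psi a q) (fst X T) T' h2 h2, huφ] at hx
      rw [← map_pow, hx, map_mul]
      refine V.mul_mem _ _ ?_ (hS _)
      have hle : W ≤ (fst X T).left ⁻¹ᵁ T' := by rw [show T' = U from hUT]
      rw [← oval_res (GIT.psi a q) hle hW]
      exact hρ _
    have hψ : ∀ α, ψ α ∈ V := hb K V hk ψ w hbd hFu
    obtain ⟨t, rfl⟩ := (GrpSchLib.Kunneth.toProd_bijective G T).2 z
    induction t using TensorProduct.induction_on with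
    | zero => rw [map_zero, map_zero]; exact V.zero_mem
    | tmul g s =>
      rw [GrpSchLib.Kunneth.toProd, Algebra.TensorProduct.lift_tmul, map_mul]
      refine V.mul_mem _ _ ?_ (hS s)
      rw [← hinvE g]
      exact hψ _
    | add s t hs ht => rw [map_add, map_add]; exact V.add_mem _ _ hs ht
  have hft : θ.FiniteType := by
    have hle : (⊤ : (G ⊗ T).left.Opens) ≤ (GIT.psi a q).left ⁻¹ᵁ W := hW
    haveI : LocallyOfFiniteType (snd G T).left := (MorphismProperty.pullback_snd G.hom T.hom (inferInstanceAs (LocallyOfFiniteType G.hom)) : LocallyOfFiniteType (pullback.snd G.hom T.hom))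
    haveI : LocallyOfFiniteType ((GIT.psi a q).left ≫ (snd X T).left) := by
      rw [← Over.comp_left, GIT.psi, lift_snd]
      infer_instance
    haveI : LocallyOfFiniteType (GIT.psi a q).left := locallyOfFiniteType_of_comp _ (snd X T).left
    exact (GIT.psi a q).left.finiteType_appLE hWa (isAffineOpen_top _) hle
  have hpre : (GIT.psi a q).left ⁻¹ᵁ W = ⊤ := top_le_iff.mp hW
  haveI : IsAffine ((GIT.psi a q).left ⁻¹ᵁ W).toScheme := by
    rw [hpre]; exact isAffineOpen_top _
  rw [HasAffineProperty.iff_of_isAffine (P := @IsFinite)]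
  refine ⟨inferInstance, ?_⟩
  have hfin : θ.Finite := RingHom.IsIntegral.to_finite hint hft
  have hfin' : ∀ W' : (X ⊗ T).left.Opens, W' = W → ((GIT.psi a q).left.app W').hom.Finite := by
    rintro _ rfl
    have e1 : (GIT.psi a q).left.app W =
        (GIT.psi a q).left.appLE W ⊤ hW ≫ (G ⊗ T).left.presheaf.map (homOfLE le_top).op := by
      rw [Scheme.Hom.appLE_map, Scheme.Hom.app_eq_appLE]
    rw [e1, CommRingCat.hom_comp]
    exact RingHom.finite_respectsIso.1 _
      ((G ⊗ T).left.presheaf.mapIso (eqToIso hpre).op).commRingCatIsoToRingEquiv hfin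
  show ((GIT.psi a q).left ∣_ W).appTop.hom.Finite
  rw [morphismRestrict_appTop, CommRingCat.hom_comp]
  exact RingHom.finite_respectsIso.1 _
    ((G ⊗ T).left.presheaf.mapIso (eqToIso (image_morphismRestrict_preimage (GIT.psi a q).left W ⊤)).op).commRingCatIsoToRingEquiv
    (hfin' _ W.ι_image_top)

end Groth.Agent.HMAmple
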