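import Groth.Agent.HMAmple.Orbit
import Groth.Agent.HMAmple.Stable
import Groth.Agent.HMAmple.Criterion
import Groth.Agent.ComodLib.Antipode

/-!
Closed orbits and finite stabilisers on the locus of a form of the stable locus.
-/

set_option autoImplicit false
set_option linter.unusedSectionVars false
set_option linter.style.haveILetI false
set_option backward.isDefEq.respectTransparency false
set_option backward.isDefEq.respectTransparency.types false

universe u

open CategoryTheory CategoryTheory.Limits MonoidalCategory CartesianMonoidalCategory MonObj GrpObj AlgebraicGeometry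
open Opposite TopologicalSpace WithConv
open Groth.Agent.GrpSchLib.Kunneth (Fn ev pullFn)
open Groth.Agent.GrpSchLib.AffineHopf (sp spMap)

namespace Groth.Agent.HMAmple

open HMSec

variable {k : Type u} [Field k] {G X : Over (Spec (CommRingCat.of k))} [GrpObj G] {a : AlgGrp.Action G X}

/-- Finite orbit maps over an open give a closed orbit in it. -/
theorem closed_of_isFinite {T : Over (Spec (CommRingCat.of k))} {f : T ⟶ X} {U : X.left.Opens}
    (h : IsFinite ((GIT.psi a f).left ∣_ ((fst X T).left ⁻¹ᵁ U))) :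
    IsClosed ((fun p : ((fst X T).left ⁻¹ᵁ U : (X ⊗ T).left.Opens) => (p : (X ⊗ T).left)) ⁻¹'
      Set.range (GIT.psi a f).left.base) := by
  let W := (fst X T).left ⁻¹ᵁ U
  have e : (fun p : W => (p : (X ⊗ T).left)) ⁻¹' Set.range (GIT.psi a f).left.base =
      Set.range ((GIT.psi a f).left ∣_ W).base := by
    refine Set.ext fun p => ⟨?_, ?_⟩
    · rintro ⟨z, hz⟩
      refine ⟨⟨z, ?_⟩, Subtype.ext ((morphismRestrict_base_coe _ _ _).trans hz)⟩
      show (GIT.psi a f).left.base z ∈ W
      rw [hz]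
      exact p.2
    · rintro ⟨z, rfl⟩
      exact ⟨z.1, (morphismRestrict_base_coe _ _ z).symm⟩
  rw [e]
  haveI := h
  exact ((GIT.psi a f).left ∣_ W).isClosedMap.isClosed_range

/-- Finite orbit maps over an open give finite stabilisers at points in it. -/
theorem isFinite_stabTo_of_isFinite {T : Over (Spec (CommRingCat.of k))} {f : T ⟶ X} {U : X.left.Opens}
    (h : IsFinite ((GIT.psi a f).left ∣_ ((fst X T).left ⁻¹ᵁ U))) (hf : Set.range f.left.base ⊆ (U : Set X.left)) :
    IsFinite (GLinSh.stabTo a f) := by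
  let W := (fst X T).left ⁻¹ᵁ U
  let s := (lift f (𝟙 T)).left
  have hs : Set.range s.base ⊆ Set.range W.ι.base := by
    rintro _ ⟨t, rfl⟩
    rw [Scheme.Opens.range_ι]
    show (lift f (𝟙 T) ≫ fst X T).left.base t ∈ U
    rw [lift_fst]
    exact hf ⟨t, rfl⟩
  let s' := IsOpenImmersion.lift W.ι s hs
  haveI := h
  have hp := (IsPullback.of_hasPullback ((GIT.psi a f).left ∣_ W) s').paste_horiz
    (isPullback_morphismRestrict (GIT.psi a f).left W).flip
  have hfac : s' ≫ W.ι = s := IsOpenImmersion.lift_fac _ _ _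
  rw [hfac] at hp
  show IsFinite (pullback.snd (GIT.psi a f).left s)
  rw [← hp.isoPullback_inv_snd]
  infer_instance

/-- A geometric test object is the spectrum of a field over the base. -/
theorem exists_iso_pt {Ω : Type u} [Field Ω] (T : Over (Spec (CommRingCat.of k)))
    (j : T.left ≅ Spec (CommRingCat.of Ω)) :
    ∃ (_ : Algebra k Ω), Nonempty (T ≅ VecGrp.pt k Ω) := by
  obtain ⟨α, hα⟩ : ∃ α : CommRingCat.of k ⟶ CommRingCat.of Ω, Spec.map α = j.inv ≫ T.hom :=
    ⟨Spec.preimage _, Spec.map_preimage _⟩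
  letI : Algebra k Ω := α.hom.toAlgebra
  refine ⟨α.hom.toAlgebra, ⟨Over.isoMk j ?_⟩⟩
  show j.hom ≫ Spec.map (CommRingCat.ofHom (algebraMap k Ω)) = T.hom
  rw [show CommRingCat.ofHom (algebraMap k Ω) = α from rfl, hα, Iso.hom_inv_id_assoc]

variable [IsAlgClosed k] [CharZero k] [IsProper X.hom] [QuasiCompact G.hom] [IsSeparated G.hom] [IsReduced G.left]
  [LocallyOfFiniteType G.hom] [IsAffine G.left] (B : GLinSh.LinBun G a)
  {A : Type u} [CommRing A] [HopfAlgebra k A] [Algebra.FiniteType k A] [_root_.IsReduced A]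
  (e : Grp.mk (sp k A) ≅ Grp.mk G) (D : Data B) {F : MvPolynomial (Fin D.n) k} {d : ℕ}

/-- Orbit maps over the locus of a form of the stable locus are finite. -/
theorem isFinite_psi_of_stable (hA : HopfRep.IsLinearlyReductive k A) (hd : 0 < d) (hhom : F.IsHomogeneous d)
    (hst : ∀ w, MvPolynomial.eval w F ≠ 0 → @GLin.IsStableVec k _ A _ _ (Fin D.n)
      (linComod (repMatrix e D.M) (D.isComodMatrix e)) (isCoactAlg_linComod _ _) w)
    (hinv : GLinSh.IsInvFn B.lift (MvPolynomial.aeval D.f F))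
    {U : X.left.Opens} (hU : (U : Set X.left) = GLinSh.nonvanishing B.π (MvPolynomial.aeval D.f F))
    (hUa : IsAffineOpen U) {Ω : Type u} [Field Ω] (T : Over (Spec (CommRingCat.of k)))
    (j : T.left ≅ Spec (CommRingCat.of Ω)) (f : T ⟶ X) (hf : Set.range f.left.base ⊆ (U : Set X.left)) :
    IsFinite ((GIT.psi a f).left ∣_ ((fst X T).left ⁻¹ᵁ U)) := by
  letI := linComod (repMatrix e D.M) (D.isComodMatrix e)
  haveI := isCoactAlg_linComod (repMatrix e D.M) (D.isComodMatrix e)
  haveI := (quasiCompact_isSeparated B).1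
  haveI := (quasiCompact_isSeparated B).2
  obtain ⟨_, ⟨i⟩⟩ := exists_iso_pt T j
  haveI : IsAffine T.left := IsAffine.of_isIso j.hom
  obtain ⟨v, hv, hgv⟩ := exists_gd B (i.inv ≫ f)
  have hw := hasWeight_of_isHomL B (D.isHomL_aeval hhom)
  have hu : IsUnit (pullFn v (MvPolynomial.aeval D.f F)) := by
    refine isUnit_pullFn B (Nat.mul_pos D.deg_pos hd) hw v hgv ?_
    rw [← hU, hv]
    exact hf ⟨i.inv.left.base (IsLocalRing.closedPoint Ω), rfl⟩
  have hT : IsUnit (ev (i.hom ≫ v) (MvPolynomial.aeval D.f F)) := by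
    rw [← GrpSchLib.Kunneth.ev_ev]
    refine IsUnit.map (ev i.hom) ?_
    have := hu.map (Scheme.ΓSpecIso (CommRingCat.of Ω)).inv.hom
    rwa [GrpSchLib.Kunneth.pullFn_apply,
      show (Scheme.ΓSpecIso (CommRingCat.of Ω)).inv.hom ((Scheme.ΓSpecIso (CommRingCat.of Ω)).hom (ev v _)) = ev v _
        from Iso.hom_inv_id_apply (Scheme.ΓSpecIso (CommRingCat.of Ω)) _] at this
  have hb : ∀ (K : Type u) [Field K] [Algebra k K] (V : ValuationSubring K), (∀ c : k, algebraMap k K c ∈ V) →
      ∀ (ψ : A →ₐ[k] K) (w : Fin D.n → V), (∀ i, ∑ j, (w j : K) * ψ (pullFn (univA e) (D.M i j)) ∈ V) →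
        MvPolynomial.aeval (fun i => (w i : K)) F ∉ V.nonunits → ∀ α, ψ α ∈ V := by
    intro K _ _ V hk ψ w hV hF α
    have h1 := mem_of_bounded hA (isLinear_linComod (repMatrix e D.M) (D.isComodMatrix e)) hd hhom hst
      (m := fun b c => repMatrix e D.M c b)
      (fun b => MvPolynomial.aeval_X (R := k) _ b) V hk (ψ.comp (HopfAlgebra.antipodeAlgHom k A)) w
      (fun b => by
        have h := hV b
        convert h using 1
        refine Finset.sum_congr rfl fun c _ => ?_
        show _ * ψ (HopfAlgebra.antipode k (HopfAlgebra.antipode k (pullFn (univA e) (D.M b c)))) = _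
        rw [ComodLib.antipode_antipode_apply (k := k) (A := A)])
      hF (HopfAlgebra.antipode k α)
    show ψ α ∈ V
    rw [← ComodLib.antipode_antipode_apply (k := k) α]
    exact h1
  have := isFinite_psi_restrict B e D hd hhom hinv hb hU hUa (i.hom ≫ v) hT
  rwa [show (i.hom ≫ v) ≫ B.π = f by rw [Category.assoc, hv, Iso.hom_inv_id_assoc]] at this

end Groth.Agent.HMAmple
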