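import Groth.Agent.FormsSLLib.HM
import Mathlib.AlgebraicGeometry.Morphisms.Affine
import Mathlib.AlgebraicGeometry.ValuativeCriterion

/-!
A criterion for an open subscheme of a universally closed scheme to be affine.
-/

set_option autoImplicit false
set_option linter.style.haveILetI false

universe u

open CategoryTheory CategoryTheory.Limits AlgebraicGeometry TopologicalSpace

namespace Groth.Agent.HMAmple

variable {X : Scheme.{u}}

/-- The value of a section at a point with values in a ring. -/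
noncomputable def sval {R : Type u} [CommRing R] (p : Spec (CommRingCat.of R) ⟶ X) (W : X.Opens)
    (h : ⊤ ≤ p ⁻¹ᵁ W) : Γ(X, W) →+* R :=
  (p.appLE W ⊤ h ≫ (Scheme.ΓSpecIso (CommRingCat.of R)).hom).hom

theorem sval_res {R : Type u} [CommRing R] (p : Spec (CommRingCat.of R) ⟶ X) {U W : X.Opens} (hWU : W ≤ U)
    (hW : ⊤ ≤ p ⁻¹ᵁ W) (s : Γ(X, U)) :
    sval p W hW (X.presheaf.map (homOfLE hWU).op s) = sval p U (hW.trans (p.preimage_mono hWU)) s :=
  ConcreteCategory.congr_hom (congrArg (fun z => z ≫ (Scheme.ΓSpecIso (CommRingCat.of R)).hom)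
    (p.map_appLE hW (homOfLE hWU).op)) s

theorem sval_congr {R : Type u} [CommRing R] {p q : Spec (CommRingCat.of R) ⟶ X} (e : p = q) (W : X.Opens)
    (h : ⊤ ≤ p ⁻¹ᵁ W) (h' : ⊤ ≤ q ⁻¹ᵁ W) : sval p W h = sval q W h' := by subst e; rfl

theorem sval_fromSpec {R : Type u} [CommRing R] {W : X.Opens} (hW : IsAffineOpen W) (φ : Γ(X, W) →+* R)
    (h : ⊤ ≤ (Spec.map (CommRingCat.ofHom φ) ≫ hW.fromSpec) ⁻¹ᵁ W) :
    sval (Spec.map (CommRingCat.ofHom φ) ≫ hW.fromSpec) W h = φ := by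
  let p := Spec.map (CommRingCat.ofHom φ) ≫ hW.fromSpec
  have e : Spec.map (CommRingCat.ofHom (sval p W h)) ≫ hW.fromSpec = p := by
    show Spec.map (p.appLE W ⊤ h ≫ (Scheme.ΓSpecIso (CommRingCat.of R)).hom) ≫ _ = _
    rw [Spec.map_comp, Category.assoc, hW.SpecMap_appLE_fromSpec p (isAffineOpen_top _) h,
      IsAffineOpen.fromSpec_top, Scheme.isoSpec_Spec_inv, ← Category.assoc, ← Spec.map_comp, Iso.inv_hom_id,
      Spec.map_id]
    exact Category.id_comp _
  exact congrArg CommRingCat.Hom.hom (Spec.map_injective ((cancel_mono hW.fromSpec).mp e))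

theorem preimage_fromSpec {R : Type u} [CommRing R] {W : X.Opens} (hW : IsAffineOpen W) (φ : Γ(X, W) →+* R) :
    ⊤ ≤ (Spec.map (CommRingCat.ofHom φ) ≫ hW.fromSpec) ⁻¹ᵁ W := fun t _ => by
  show (Spec.map (CommRingCat.ofHom φ) ≫ hW.fromSpec).base t ∈ W
  rw [← SetLike.mem_coe, ← hW.range_fromSpec]
  exact ⟨_, rfl⟩

theorem sval_specMap {R R' : Type u} [CommRing R] [CommRing R'] (φ : R →+* R') (p : Spec (CommRingCat.of R) ⟶ X)
    (W : X.Opens) (h : ⊤ ≤ p ⁻¹ᵁ W) (h' : ⊤ ≤ (Spec.map (CommRingCat.ofHom φ) ≫ p) ⁻¹ᵁ W) (s : Γ(X, W)) :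
    sval (Spec.map (CommRingCat.ofHom φ) ≫ p) W h' s = φ (sval p W h s) := by
  let ψ := Spec.map (CommRingCat.ofHom φ)
  have hψ : (⊤ : (Spec (CommRingCat.of R')).Opens) ≤ ψ ⁻¹ᵁ ⊤ := le_top
  have e : (ψ ≫ p).appLE W ⊤ h' ≫ (Scheme.ΓSpecIso (CommRingCat.of R')).hom =
      (p.appLE W ⊤ h ≫ (Scheme.ΓSpecIso (CommRingCat.of R)).hom) ≫ CommRingCat.ofHom φ := by
    rw [← Scheme.Hom.appLE_comp_appLE ψ p W ⊤ ⊤ h hψ, Category.assoc, Category.assoc,
      show ψ.appLE ⊤ ⊤ hψ = ψ.appTop from Scheme.Hom.appLE_eq_app (f := ψ) (U := ⊤)]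
    congr 1
    exact Scheme.ΓSpecIso_naturality (CommRingCat.ofHom φ)
  exact ConcreteCategory.congr_hom e s

/-- An open `U` of a universally closed scheme over an affine base is affine as soon as `X` is covered by finitely many affine
opens `V i` meeting `U` in the non-vanishing loci of functions `a i` on `U` and `b i` on `V i` with product one. -/
theorem isAffineOpen_of_ratios {R : CommRingCat.{u}} (π : X ⟶ Spec R) [UniversallyClosed π] {ι : Type*} [Finite ι]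
    (V : ι → X.Opens) (hV : ∀ i, IsAffineOpen (V i)) (hcov : ∀ x : X, ∃ i, x ∈ V i) (U : X.Opens)
    (a : ∀ i, Γ(X, U)) (b : ∀ i, Γ(X, V i)) (ha : ∀ i, X.basicOpen (a i) = U ⊓ V i)
    (hb : ∀ i, X.basicOpen (b i) = U ⊓ V i)
    (hab : ∀ i, X.presheaf.map (homOfLE (inf_le_left : U ⊓ V i ≤ U)).op (a i) *
      X.presheaf.map (homOfLE (inf_le_right : U ⊓ V i ≤ V i)).op (b i) = 1) : IsAffineOpen U := by
  classical
  haveI := Fintype.ofFinite ι
  have haff : ∀ i, IsAffineOpen (U ⊓ V i) := fun i => hb i ▸ (hV i).basicOpen (b i)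
  refine isAffineOpen_of_isAffineOpen_basicOpen U (Set.range a) ?_ ?_
  swap
  · rintro _ ⟨i, rfl⟩
    rw [ha i]
    exact haff i
  by_contra hne
  obtain ⟨m, hm, hle⟩ := Ideal.exists_le_maximal _ hne
  haveI := hm.isPrime
  let r : ∀ i, Γ(X, U) →+* Γ(X, U ⊓ V i) := fun i =>
    (X.presheaf.map (homOfLE (inf_le_left : U ⊓ V i ≤ U)).op).hom
  obtain ⟨i, -, hi⟩ : ∃ i ∈ (Finset.univ : Finset ι), RingHom.ker (r i) ≤ m := by
    refine (Ideal.IsPrime.inf_le' hm.isPrime).mp fun s hs => ?_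
    have hs' : ∀ i, r i s = 0 := fun i => by
      have := (Submodule.mem_finsetInf).mp hs i (Finset.mem_univ i)
      exact this
    have : s = 0 := X.sheaf.eq_of_locally_eq' (fun i => U ⊓ V i) U (fun i => homOfLE inf_le_left)
      (fun x hx => by
        obtain ⟨i, hi⟩ := hcov x
        exact Opens.mem_iSup.mpr ⟨i, hx, hi⟩) s 0 fun i => by
          rw [map_zero]; exact hs' i
    rw [this]; exact m.zero_mem
  obtain ⟨K, _, ψ, O, hO, hO'⟩ := FormsSLLib.exists_valuation_specialising (r i) m hi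
  let p : Spec (CommRingCat.of K) ⟶ X := Spec.map (CommRingCat.ofHom ψ) ≫ (haff i).fromSpec
  have hpi : ⊤ ≤ p ⁻¹ᵁ (U ⊓ V i) := preimage_fromSpec (haff i) ψ
  have hpU : ⊤ ≤ p ⁻¹ᵁ U := hpi.trans (p.preimage_mono inf_le_left)
  have hθ : ∀ s, sval p U hpU s = ψ (r i s) := fun s => by
    rw [← sval_res p inf_le_left hpi s, sval_fromSpec (haff i) ψ hpi]
  -- the structure map of the valuation ring
  let ρ : R ⟶ CommRingCat.of K := Spec.preimage (p ≫ π)
  have hρ : Spec.map ρ = p ≫ π := Spec.map_preimage _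
  have hUπ : U ≤ π ⁻¹ᵁ ⊤ := le_top
  have hρO : ∀ c, ρ c ∈ O := fun c => by
    have h1 := ConcreteCategory.congr_hom (Scheme.ΓSpecIso_naturality ρ) ((Scheme.ΓSpecIso R).inv c)
    have h2 : (Scheme.ΓSpecIso R).hom ((Scheme.ΓSpecIso R).inv c) = c :=
      ConcreteCategory.congr_hom (Scheme.ΓSpecIso R).inv_hom_id c
    have h3 : (Spec.map ρ).appTop = π.appLE ⊤ U hUπ ≫ p.appLE U ⊤ hpU := by
      rw [hρ, Scheme.Hom.appLE_comp_appLE p π ⊤ U ⊤ hUπ hpU]
      exact (Scheme.Hom.appLE_eq_app (f := p ≫ π) (U := ⊤)).symm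
    rw [CommRingCat.comp_apply, CommRingCat.comp_apply, h2, h3] at h1
    rw [← h1]
    show sval p U hpU (π.appLE ⊤ U hUπ ((Scheme.ΓSpecIso R).inv c)) ∈ O
    rw [hθ]
    exact hO _
  let ρO : R ⟶ CommRingCat.of O := CommRingCat.ofHom (ρ.hom.codRestrict O.toSubring hρO)
  have hex := UniversallyClosed.eq_valuativeCriterion ▸ ‹UniversallyClosed π›
  obtain ⟨l, hl, -⟩ := (hex.1
    { R := O
      K := K
      i₁ := p
      i₂ := Spec.map ρO
      commSq := ⟨by
        rw [← hρ, ← Spec.map_comp]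
        rfl⟩ }).exists_lift
  obtain ⟨j, hj⟩ := hcov (l.base (IsLocalRing.closedPoint O))
  have hlj : ⊤ ≤ l ⁻¹ᵁ V j := fun t _ =>
    (((PrimeSpectrum.le_iff_specializes t (IsLocalRing.closedPoint O)).1
      (IsLocalRing.le_maximalIdeal t.isPrime.ne_top)).map l.continuous).mem_open (V j).isOpen hj
  replace hl : Spec.map (CommRingCat.ofHom (algebraMap O K)) ≫ l = p := hl
  have hpV : ⊤ ≤ p ⁻¹ᵁ V j := fun t _ => by
    rw [← hl]
    exact hlj (Set.mem_univ _)
  have hpj : ⊤ ≤ p ⁻¹ᵁ (U ⊓ V j) := fun t ht => ⟨hpU ht, hpV ht⟩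
  have h1 := congrArg (sval p (U ⊓ V j) hpj) (hab j)
  rw [map_mul, map_one, sval_res p inf_le_left hpj, sval_res p inf_le_right hpj, hθ,
    sval_congr hl.symm (V j) hpV (fun t _ => hlj (Set.mem_univ _))] at h1
  have h0 := sval_specMap (algebraMap O K) l (V j) hlj (fun t _ => hlj (Set.mem_univ _)) (b j)
  replace h1 : ψ (r i (a j)) * algebraMap O K (sval l (V j) hlj (b j)) = 1 :=
    (congrArg (ψ (r i (a j)) * ·) h0).symm.trans h1
  have h2 : ψ (r i (a j)) ∈ O.nonunits := hO' _ (hle (Ideal.subset_span ⟨j, rfl⟩))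
  have h3 : O.valuation (ψ (r i (a j))) < 1 := (O.mem_nonunits_iff).mp h2
  have h4 := congrArg O.valuation h1
  rw [map_mul, map_one] at h4
  have h5 : O.valuation (algebraMap O K (sval l (V j) hlj (b j))) ≤ 1 := O.valuation_le_one _
  exact absurd h4 (ne_of_lt (mul_lt_one_of_nonneg_of_lt_one_left zero_le h3 h5))

end Groth.Agent.HMAmple
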