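import Groth.Agent.HMAmple.Rep
import Groth.Agent.HMSec.Fibre

/-!
A stable finite family of weight functions without common zero for an ample linearised bundle, and the invariant
sections it produces.
-/

set_option autoImplicit false
set_option linter.unusedSectionVars false
set_option linter.style.haveILetI false
set_option backward.isDefEq.respectTransparency false
set_option backward.isDefEq.respectTransparency.types false

universe u

open CategoryTheory CategoryTheory.Limits MonoidalCategory CartesianMonoidalCategory MonObj GrpObj AlgebraicGeometry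
open Opposite TopologicalSpace WithConv
open Groth.Agent.GrpSchLib.Kunneth (Fn ev pullFn)
open Groth.Agent.GrpSchLib.AffineHopf (sp spMap)

namespace Groth.Agent.HMAmple

open HMSec

variable {k : Type u} [Field k] {G X : Over (Spec (CommRingCat.of k))} [GrpObj G]
variable {a : AlgGrp.Action G X} (B : GLinSh.LinBun G a)

theorem quasiCompact_isSeparated [IsProper X.hom] : QuasiCompact B.V.hom ∧ IsSeparated B.V.hom := by
  haveI : IsAffineHom B.π.left := B.atlas.affine
  constructor
  · have : QuasiCompact (B.π.left ≫ X.hom) := inferInstance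
    rwa [Over.w B.π] at this
  · have : IsSeparated (B.π.left ≫ X.hom) := inferInstance
    rwa [Over.w B.π] at this

/-- A stable independent family of weight functions of one positive degree, with sections among its combinations
whose affine non-vanishing loci cover. -/
structure Data where
  deg : ℕ
  deg_pos : 1 ≤ deg
  n : ℕ
  f : Fin n → Fn B.V
  M : Fin n → Fin n → Fn G
  indep : LinearIndependent k f
  weight : ∀ i, GLinSh.HasWeight B.atlas.chart deg (f i)
  stable : ∀ g i, trA B.lift g (f i) = ∑ j, val g (M i j) • f j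
  card : ℕ
  g : Fin card → Fn B.V
  g_mem : ∀ j, g j ∈ Submodule.span k (Set.range f)
  g_weight : ∀ j, GLinSh.HasWeight B.atlas.chart deg (g j)
  g_affine : ∀ j, IsAffineOpen (nzOpen B.atlas deg_pos (g_weight j))
  g_cover : ∀ x : X.left, ∃ j, x ∈ GLinSh.nonvanishing B.π (g j)

theorem exists_data [IsAlgClosed k] [IsProper X.hom] [QuasiCompact G.hom] [IsSeparated G.hom] [IsReduced G.left]
    [LocallyOfFiniteType G.hom] (hB : HMNum.AmpleCover B) : Nonempty (Data B) := by
  classical
  obtain ⟨hcpt, hcov⟩ := hB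
  choose n f hn hw hmem U hU hUa using hcov
  haveI := (quasiCompact_isSeparated B).1
  haveI := (quasiCompact_isSeparated B).2
  obtain ⟨s, hs⟩ := isCompact_univ.elim_finite_subcover (fun x => (U x : Set X.left)) (fun x => (U x).isOpen)
    fun x _ => Set.mem_iUnion.mpr ⟨x, by rw [hU x]; exact hmem x⟩
  let N := ∏ x ∈ s, n x
  have hN : 1 ≤ N := Nat.one_le_iff_ne_zero.mpr (Finset.prod_ne_zero_iff.mpr fun x _ => (Nat.one_le_iff_ne_zero.mp (hn x)))
  have hdvd : ∀ x ∈ s, n x * (N / n x) = N := fun x hx => Nat.mul_div_cancel' (Finset.dvd_prod_of_mem n hx)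
  let F : X.left → Fn B.V := fun x => f x ^ (N / n x)
  have hhom : ∀ x ∈ s, IsHomL B N (F x) := fun x hx =>
    hdvd x hx ▸ (isHomL_of_hasWeight B (hw x)).pow' B (N / n x)
  have hnz : ∀ x ∈ s, GLinSh.nonvanishing B.π (F x) = GLinSh.nonvanishing B.π (f x) := fun x hx => by
    have : 0 < N / n x := Nat.pos_of_ne_zero fun h => by
      have := hdvd x hx; rw [h, mul_zero] at this; omega
    unfold GLinSh.nonvanishing
    rw [Scheme.basicOpen_pow _ _ this]
  obtain ⟨m, φ, M, hind, hspan, hP, hst⟩ := exists_stable B.lift (s.image F) (IsHomL B N) (isHomL_zero B)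
    (fun _ _ h h' => isHomL_add B h h') (fun c _ h => isHomL_smul B h c) fun φ hφ g => by
      obtain ⟨x, hx, rfl⟩ := Finset.mem_image.mp hφ
      exact isHomL_tr B (hhom x hx) g
  let e := Fintype.equivFin s
  refine ⟨{
    deg := N
    deg_pos := hN
    n := m
    f := φ
    M := M
    indep := hind
    weight := fun i => hasWeight_of_isHomL B (hP i)
    stable := hst
    card := Fintype.card s
    g := fun j => F (e.symm j)
    g_mem := fun j => hspan _ (Finset.mem_image_of_mem F (e.symm j).2)
    g_weight := fun j => hasWeight_of_isHomL B (hhom _ (e.symm j).2)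
    g_affine := fun j => ?_
    g_cover := fun x => ?_ }⟩
  · have h1 : nzOpen B.atlas hN (hasWeight_of_isHomL B (hhom _ (e.symm j).2)) = U (e.symm j) :=
      Opens.ext (((hU (e.symm j : X.left)).trans (hnz _ (e.symm j).2).symm).symm)
    rw [h1]
    exact hUa _
  · obtain ⟨y, hy, hxy⟩ := Set.mem_iUnion₂.mp (hs (Set.mem_univ x))
    refine ⟨e ⟨y, hy⟩, ?_⟩
    rw [Equiv.symm_apply_apply, hnz y hy, ← hU y]
    exact hxy

variable {B}

/-- At a spanning vector some member of the family is non-zero. -/
theorem Data.exists_ne_zero (D : Data B) {v : VecGrp.pt k k ⟶ B.V} (hv : Gd B v) :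
    ∃ i, pullFn v (D.f i) ≠ 0 := by
  obtain ⟨j, hj⟩ := D.g_cover ((v ≫ B.π).left.base (IsLocalRing.closedPoint k))
  have h1 := (HMSec.mem_nonvanishing_iff B (D.g_weight j) v hv).mp hj
  by_contra! hall
  refine h1 ?_
  have : Submodule.span k (Set.range D.f) ≤ LinearMap.ker (pullFn v).toLinearMap :=
    Submodule.span_le.mpr (by rintro _ ⟨i, rfl⟩; exact hall i)
  exact this (D.g_mem j)

theorem Data.isHomL_aeval (D : Data B) {F : MvPolynomial (Fin D.n) k} {d : ℕ} (hF : F.IsHomogeneous d) :
    IsHomL B (D.deg * d) (MvPolynomial.aeval D.f F) := by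
  rw [MvPolynomial.as_sum F, map_sum]
  refine Finset.sum_induction _ (IsHomL B (D.deg * d)) (fun _ _ h h' => isHomL_add B h h') (isHomL_zero B)
    fun m hm => ?_
  have hd : Finsupp.degree m = d := by
    rw [Finsupp.degree_eq_weight_one]
    exact hF (MvPolynomial.mem_support_iff.mp hm)
  have key : ∀ (m : Fin D.n →₀ ℕ) (c : k),
      IsHomL B (D.deg * Finsupp.degree m) (MvPolynomial.aeval D.f (MvPolynomial.monomial m c)) := by
    intro m c R _ _ _ s v v' h
    simp only [MvPolynomial.aeval_monomial, map_mul, AlgHom.commutes, map_finsuppProd, map_pow]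
    have h' : ∀ i, pullFn v' (D.f i) = s ^ D.deg * pullFn v (D.f i) := fun i =>
      isHomL_of_hasWeight B (D.weight i) R s v v' h
    simp only [h', mul_pow, ← pow_mul, Finsupp.prod, Finset.prod_mul_distrib, Finset.prod_pow_eq_pow_sum,
      ← Finset.mul_sum]
    rw [show Finsupp.degree m = ∑ i ∈ m.support, m i from rfl]
    ring
  exact hd ▸ key m (F.coeff m)

variable [IsAlgClosed k] [IsProper X.hom] [QuasiCompact G.hom] [IsSeparated G.hom] [IsReduced G.left]
  [LocallyOfFiniteType G.hom] {A : Type u} [CommRing A] [HopfAlgebra k A] [Algebra.FiniteType k A]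
  [_root_.IsReduced A] (e : Grp.mk (sp k A) ≅ Grp.mk G)

theorem Data.isComodMatrix (D : Data B) : ComodLib.IsComodMatrix k (repMatrix e D.M) :=
  haveI := (quasiCompact_isSeparated B).1
  haveI := (quasiCompact_isSeparated B).2
  isComodMatrix_repMatrix e B.lift D.f D.M D.indep D.stable

/-- An invariant form of positive degree gives an invariant section with affine non-vanishing locus. -/
theorem Data.exists_invSection (D : Data B) {F : MvPolynomial (Fin D.n) k} {d : ℕ} (hd : 0 < d)
    (hhom : F.IsHomogeneous d)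
    (hF : F ∈ @GLin.invariants k _ A _ _ (MvPolynomial (Fin D.n) k) _ _ (linComod (repMatrix e D.M) (D.isComodMatrix e))
      (isCoactAlg_linComod (repMatrix e D.M) (D.isComodMatrix e))) :
    B.IsInvSection (D.deg * d) (MvPolynomial.aeval D.f F) ∧ 1 ≤ D.deg * d ∧
      ∃ U : X.left.Opens, (U : Set X.left) = GLinSh.nonvanishing B.π (MvPolynomial.aeval D.f F) ∧ IsAffineOpen U := by
  haveI := (quasiCompact_isSeparated B).1
  haveI := (quasiCompact_isSeparated B).2
  have hw := hasWeight_of_isHomL B (D.isHomL_aeval hhom)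
  have hn : 1 ≤ D.deg * d := Nat.mul_pos D.deg_pos hd
  refine ⟨⟨hw, isInvFn_aeval e B.lift D.f D.M D.stable (D.isComodMatrix e) hF⟩, hn,
    nzOpen B.atlas hn hw, rfl, ?_⟩
  have hgw : ∀ j, GLinSh.HasWeight B.atlas.chart (D.deg * d) (D.g j ^ d) := fun j =>
    hasWeight_of_isHomL B ((isHomL_of_hasWeight B (D.g_weight j)).pow' B d)
  have hnz : ∀ j, GLinSh.nonvanishing B.π (D.g j ^ d) = GLinSh.nonvanishing B.π (D.g j) := fun j => by
    unfold GLinSh.nonvanishing
    rw [Scheme.basicOpen_pow _ _ hd]
  refine isAffineOpen_nzOpen B.atlas X.hom hn hw (fun j => D.g j ^ d) hgw (fun j => ?_) fun x => ?_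
  · rw [show nzOpen B.atlas hn (hgw j) = nzOpen B.atlas D.deg_pos (D.g_weight j) from Opens.ext (hnz j)]
    exact D.g_affine j
  · obtain ⟨j, hj⟩ := D.g_cover x
    exact ⟨j, (hnz j).symm ▸ hj⟩

end Groth.Agent.HMAmple
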