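import Groth.Agent.ComodLib.MatrixComod
import Groth.Agent.ComodLib.StableOrbit
import Groth.Prelude.Def_GLin

/-!
The linear coaction on a polynomial ring given by a comultiplicative matrix.
-/

set_option autoImplicit false
set_option linter.unusedSectionVars false

universe u

open TensorProduct MvPolynomial WithConv

namespace Groth.Agent.HMAmple

variable {k : Type u} [Field k] {A : Type u} [CommRing A] [HopfAlgebra k A]
  {ι : Type} [Fintype ι] [DecidableEq ι] (P : ι → ι → A) (hP : ComodLib.IsComodMatrix k P)

variable (k) in
/-- The coaction map of a matrix. -/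
noncomputable def coactMap : MvPolynomial ι k →ₐ[k] MvPolynomial ι k ⊗[k] A :=
  aeval fun b => ∑ a, (X a : MvPolynomial ι k) ⊗ₜ[k] P a b

/-- The comodule structure on polynomials. -/
@[reducible] noncomputable def linComod : HopfRep.Comod k A (MvPolynomial ι k) where
  coact := (coactMap k P).toLinearMap
  coassoc := by
    have key : ((Algebra.TensorProduct.assoc k k k (MvPolynomial ι k) A A).toAlgHom.comp
        ((Algebra.TensorProduct.map (coactMap k P) (AlgHom.id k A)).comp (coactMap k P))) =
        (Algebra.TensorProduct.map (AlgHom.id k (MvPolynomial ι k)) (Bialgebra.comulAlgHom k A)).comp (coactMap k P) := by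
      refine MvPolynomial.algHom_ext fun b => ?_
      simp [coactMap, hP.comul, TensorProduct.sum_tmul, TensorProduct.tmul_sum]
      exact Finset.sum_comm
    exact LinearMap.ext fun f => DFunLike.congr_fun key f
  counit_comp := by
    have key : ((Algebra.TensorProduct.map (AlgHom.id k (MvPolynomial ι k)) (Bialgebra.counitAlgHom k A)).comp
        (coactMap k P)) = (Algebra.TensorProduct.includeLeft : MvPolynomial ι k →ₐ[k] MvPolynomial ι k ⊗[k] k) := by
      refine MvPolynomial.algHom_ext fun b => ?_
      simp only [AlgHom.comp_apply, coactMap, aeval_X, map_sum, Algebra.TensorProduct.map_tmul, AlgHom.coe_id, id_eq,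
        Bialgebra.counitAlgHom_apply, hP.counit, Algebra.TensorProduct.includeLeft_apply]
      rw [Finset.sum_eq_single b]
      · simp
      · intro a _ hab
        simp [hab]
      · intro h
        exact absurd (Finset.mem_univ b) h
    exact LinearMap.ext fun f => DFunLike.congr_fun key f

theorem isCoactAlg_linComod : @GLin.IsCoactAlg k _ A _ _ (MvPolynomial ι k) _ _ (linComod P hP) :=
  @GLin.IsCoactAlg.mk k _ A _ _ (MvPolynomial ι k) _ _ (linComod P hP) (map_one (coactMap k P))
    (fun f g => map_mul (coactMap k P) f g)

theorem isLinear_linComod : @GLin.IsLinear k _ A _ _ ι _ (linComod P hP) :=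
  fun b => ⟨fun a => P a b, aeval_X (R := k) (fun b => ∑ a, (X a : MvPolynomial ι k) ⊗ₜ[k] P a b) b⟩

/-- The substitution of variables given by a point of the group. -/
noncomputable def subst (φ : A →ₐ[k] k) : MvPolynomial ι k →ₐ[k] MvPolynomial ι k :=
  aeval fun b => ∑ a, φ (P a b) • (X a : MvPolynomial ι k)

theorem subst_eq (φ : A →ₐ[k] k) (f : MvPolynomial ι k) :
    subst P φ f = ComodLib.slice φ.toLinearMap (coactMap k P f) := by
  have key : ((Algebra.TensorProduct.rid k k (MvPolynomial ι k)).toAlgHom.comp
      ((Algebra.TensorProduct.map (AlgHom.id k (MvPolynomial ι k)) φ).comp (coactMap k P))) = subst P φ := by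
    refine MvPolynomial.algHom_ext fun b => ?_
    simp [coactMap, subst]
  rw [← key]
  show _ = ComodLib.slice φ.toLinearMap (coactMap k P f)
  simp only [AlgHom.comp_apply]
  generalize coactMap k P f = z
  induction z using TensorProduct.induction_on with
  | zero => simp
  | tmul p q => simp
  | add p q hp hq => simp only [map_add, hp, hq]

theorem subst_invariant {f : MvPolynomial ι k}
    (hf : f ∈ @GLin.invariants k _ A _ _ (MvPolynomial ι k) _ _ (linComod P hP) (isCoactAlg_linComod P hP))
    (φ : A →ₐ[k] k) : subst P φ f = f := by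
  rw [subst_eq, show coactMap k P f = f ⊗ₜ[k] (1 : A) from hf, ComodLib.slice_tmul]
  simp

theorem orbitHom_X (w : ι → k) (b : ι) :
    @GLin.orbitHom k _ A _ _ (MvPolynomial ι k) _ _ (linComod P hP) (isCoactAlg_linComod P hP) (GLin.vecPt k ι w) (X b) =
      ∑ a, w a • P a b := by
  show (Algebra.TensorProduct.lid k A) ((Algebra.TensorProduct.map (GLin.vecPt k ι w) (AlgHom.id k A)) (coactMap k P (X b))) = _
  simp [coactMap, GLin.vecPt]

/-- A comultiplicative matrix is recognised on pairs of rational points. -/
theorem isComodMatrix_of_points [IsAlgClosed k] [Algebra.FiniteType k A] [_root_.IsReduced A] {Q : ι → ι → A}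
    (hmul : ∀ (φ ψ : WithConv (A →ₐ[k] k)) (i j : ι),
      (φ * ψ).ofConv (Q i j) = ∑ l, φ.ofConv (Q i l) * ψ.ofConv (Q l j))
    (hone : ∀ i j, (1 : WithConv (A →ₐ[k] k)).ofConv (Q i j) = if i = j then 1 else 0) :
    ComodLib.IsComodMatrix k Q where
  comul i j := by
    refine sub_eq_zero.mp (ComodLib.eq_zero_of_forall_pt fun ψ => ?_)
    by_contra hne
    obtain ⟨φ, hφ⟩ := ComodLib.exists_point_ne_zero (k := k)
      (a := ComodLib.slice ψ.toLinearMap (Coalgebra.comul (R := k) (Q i j) - ∑ l, Q i l ⊗ₜ[k] Q l j))
      fun h => hne h.eq_zero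
    refine hφ ?_
    have h1 : ∀ z : A ⊗[k] A, φ (ComodLib.slice ψ.toLinearMap z) =
        LinearMap.mul' k k (TensorProduct.map φ.toLinearMap ψ.toLinearMap z) := fun z => by
      induction z using TensorProduct.induction_on with
      | zero => simp
      | tmul p q => simp [mul_comm]
      | add p q hp hq => simp only [map_add, hp, hq]
    have h2 := hmul (toConv φ) (toConv ψ) i j
    rw [AlgHom.convMul_apply] at h2
    rw [map_sub, map_sub, map_sum, map_sum, h1, sub_eq_zero]
    refine Eq.trans ?_ (h2.trans ?_)
    · induction Coalgebra.comul (R := k) (Q i j) using TensorProduct.induction_on with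
      | zero => simp
      | tmul p q => simp
      | add p q hp hq => simp only [map_add, hp, hq]
    · exact Finset.sum_congr rfl fun l _ => by simp [mul_comm]
  counit i j := hone i j

end Groth.Agent.HMAmple
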