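import Groth.Agent.HMAmple.Translates
import Groth.Agent.HMGit.Points
import Groth.Agent.HMSec.Line
import Groth.Agent.GrpSchLib.AffineHopf
import Mathlib.RingTheory.Bialgebra.MonoidAlgebra

/-!
Rational points and one-parameter subgroups of a group through a Hopf algebra model.
-/

set_option autoImplicit false
set_option linter.unusedSectionVars false
set_option linter.style.haveILetI false
set_option backward.isDefEq.respectTransparency false
set_option backward.isDefEq.respectTransparency.types false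

universe u

open CategoryTheory CategoryTheory.Limits MonoidalCategory CartesianMonoidalCategory MonObj GrpObj AlgebraicGeometry
open Opposite TopologicalSpace WithConv TensorProduct LaurentPolynomial
open Groth.Agent.GrpSchLib.Kunneth (Fn ev pullFn)
open Groth.Agent.GrpSchLib.AffineHopf (sp spMap)

namespace Groth.Agent.HMAmple

variable {k : Type u} [Field k] {A : Type u} [CommRing A] [HopfAlgebra k A]
  {G : Over (Spec (CommRingCat.of k))} [GrpObj G] (e : Grp.mk (sp k A) ≅ Grp.mk G)

/-- The tautological point of the model. -/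
noncomputable def univA : VecGrp.pt k A ⟶ G := e.hom.hom.hom

theorem spMap_eq_ptMap {B C : Type u} [CommRing B] [Algebra k B] [CommRing C] [Algebra k C] (φ : C →ₐ[k] B) :
    (spMap φ : sp k B ⟶ sp k C) = VecGrp.ptMap φ := rfl

/-- The points of the group over any test object from those of the model. -/
noncomputable def ptHomR (R : Type u) [CommRing R] [Algebra k R] :
    WithConv (A →ₐ[k] R) →* (VecGrp.pt k R ⟶ G) :=
  haveI : IsMonHom e.hom.hom.hom := e.hom.hom.isMonHom_hom
  { toFun := fun φ => spMap φ.ofConv ≫ e.hom.hom.hom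
    map_one' := by
      rw [GrpSchLib.AffineHopf.spMap_eq_mapMulEquiv, toConv_ofConv, map_one, MonObj.one_comp]
    map_mul' := fun φ ψ => by
      rw [GrpSchLib.AffineHopf.spMap_eq_mapMulEquiv, GrpSchLib.AffineHopf.spMap_eq_mapMulEquiv,
        GrpSchLib.AffineHopf.spMap_eq_mapMulEquiv, toConv_ofConv, toConv_ofConv, toConv_ofConv, map_mul,
        MonObj.mul_comp] }

theorem ptHomR_apply (R : Type u) [CommRing R] [Algebra k R] (φ : WithConv (A →ₐ[k] R)) :
    ptHomR e R φ = VecGrp.ptMap φ.ofConv ≫ univA e := rfl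

theorem pullFn_ptHomR (R : Type u) [CommRing R] [Algebra k R] (φ : WithConv (A →ₐ[k] R)) (α : Fn G) :
    pullFn (ptHomR e R φ) α = φ.ofConv (pullFn (univA e) α) := by
  rw [ptHomR_apply, GrpSchLib.Kunneth.pullFn_ptMap]

/-- The rational points of the group from those of the model. -/
noncomputable def ptHom : WithConv (A →ₐ[k] k) →* (𝟙_ (Over (Spec (CommRingCat.of k))) ⟶ G) where
  toFun φ := unitPtInv ≫ ptHomR e k φ
  map_one' := by rw [map_one, MonObj.comp_one]
  map_mul' φ ψ := by rw [map_mul, MonObj.comp_mul]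

theorem val_ptHom (φ : WithConv (A →ₐ[k] k)) (α : Fn G) : val (ptHom e φ) α = φ.ofConv (pullFn (univA e) α) := by
  show pullFn (HMSec.cst (unitPtInv ≫ ptHomR e k φ) k) α = _
  rw [cst_unitPtInv, pullFn_ptHomR]

theorem ptHom_surjective : Function.Surjective (ptHom e) := by
  intro g
  obtain ⟨φ, hφ⟩ := GrpSchLib.AffineHopf.exists_eq_spMap (HMSec.cst g k ≫ e.inv.hom.hom)
  refine ⟨toConv φ, ?_⟩
  show unitPtInv ≫ spMap φ ≫ e.hom.hom.hom = g
  rw [← hφ, Category.assoc, show e.inv.hom.hom ≫ e.hom.hom.hom = 𝟙 _ from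
    congrArg (fun k => k.hom.hom) e.inv_hom_id, Category.comp_id, HMSec.cst, ← Category.assoc,
    toUnit_unique (unitPtInv ≫ toUnit (VecGrp.pt k k)) (𝟙 _), Category.id_comp]

/-- Evaluation of Laurent polynomials at a unit of an algebra. -/
noncomputable def evC {C : Type u} [CommRing C] [Algebra k C] (s : Cˣ) : k[T;T⁻¹] →ₐ[k] C :=
  AddMonoidAlgebra.lift k C ℤ ((Units.coeHom C).comp (zpowersHom Cˣ s))

theorem evC_T {C : Type u} [CommRing C] [Algebra k C] (s : Cˣ) (n : ℤ) :
    evC s (LaurentPolynomial.T n : k[T;T⁻¹]) = ((s ^ n : Cˣ) : C) := by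
  rw [evC, show (LaurentPolynomial.T n : k[T;T⁻¹]) = AddMonoidAlgebra.single n 1 from rfl,
    AddMonoidAlgebra.lift_single, one_smul]
  rfl

theorem comp_evC {C D : Type u} [CommRing C] [Algebra k C] [CommRing D] [Algebra k D] (h : C →ₐ[k] D) (s : Cˣ) :
    h.comp (evC s) = evC (Units.map h.toMonoidHom s) :=
  AddMonoidAlgebra.algHom_ext (fun n => by
    show h (evC s (LaurentPolynomial.T n)) = evC (Units.map h.toMonoidHom s) (LaurentPolynomial.T n)
    rw [evC_T, evC_T, ← map_zpow]
    rfl) (Subsingleton.elim _ _)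

/-- The points of a one-parameter subgroup of the model. -/
noncomputable def lamC (lam : A →ₐc[k] k[T;T⁻¹]) (C : Type u) [CommRing C] [Algebra k C] :
    Cˣ →* WithConv (A →ₐ[k] C) where
  toFun s := toConv ((evC (k := k) s).comp (lam : A →ₐ[k] k[T;T⁻¹]))
  map_one' := ofConv_injective (AlgHom.ext fun a => by
    show evC (1 : Cˣ) (lam a) = algebraMap k C (Coalgebra.counit (R := k) a)
    have h : evC (k := k) (1 : Cˣ) = (Algebra.ofId k C).comp (Bialgebra.counitAlgHom k k[T;T⁻¹]) :=
      AddMonoidAlgebra.algHom_ext (fun n => by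
        show evC (1 : Cˣ) (LaurentPolynomial.T n) =
          algebraMap k C (Coalgebra.counit (R := k) (LaurentPolynomial.T n : k[T;T⁻¹]))
        rw [evC_T]
        simp) (Subsingleton.elim _ _)
    rw [h]
    show algebraMap k C (Coalgebra.counit (R := k) (lam a)) = _
    rw [CoalgHomClass.counit_comp_apply lam a])
  map_mul' s t := by
    have h : toConv (evC (k := k) (s * t)) = toConv (evC (k := k) s) * toConv (evC (k := k) t) := ofConv_injective
      (AddMonoidAlgebra.algHom_ext (fun n => by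
        show evC (k := k) (s * t) (LaurentPolynomial.T n) = (toConv (evC (k := k) s) * toConv (evC (k := k) t)) (LaurentPolynomial.T n)
        rw [AlgHom.convMul_apply, LaurentPolynomial.comul_T, Algebra.TensorProduct.lift_tmul, evC_T]
        show _ = evC (k := k) s (LaurentPolynomial.T n) * evC (k := k) t (LaurentPolynomial.T n)
        rw [evC_T, evC_T, mul_zpow, Units.val_mul]) (Subsingleton.elim _ _))
    refine ofConv_injective ?_
    show (toConv (evC (k := k) (s * t))).ofConv.comp _ = _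
    rw [h]
    exact AlgHom.convMul_comp_bialgHom_distrib (toConv (evC (k := k) s)) (toConv (evC (k := k) t)) lam

/-- Functions on a test object as a monoid homomorphism into its points. -/
noncomputable def genHom (T : Over (Spec (CommRingCat.of k))) : WithConv (A →ₐ[k] Fn T) →* (T ⟶ G) where
  toFun φ := HMSec.toSpec T (AlgHom.id k (Fn T)) ≫ ptHomR e (Fn T) φ
  map_one' := by rw [map_one, MonObj.comp_one]
  map_mul' φ ψ := by rw [map_mul, MonObj.comp_mul]

theorem genHom_apply (T : Over (Spec (CommRingCat.of k))) (φ : WithConv (A →ₐ[k] Fn T)) :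
    genHom e T φ = HMSec.toSpec T φ.ofConv ≫ univA e := by
  show HMSec.toSpec T (AlgHom.id k (Fn T)) ≫ VecGrp.ptMap φ.ofConv ≫ univA e = _
  rw [← Category.assoc, HMSec.toSpec_comp, AlgHom.id_comp]

theorem comp_genHom {T T' : Over (Spec (CommRingCat.of k))} (t : T' ⟶ T) (φ : WithConv (A →ₐ[k] Fn T)) :
    t ≫ genHom e T φ = genHom e T' (toConv ((ev t).comp φ.ofConv)) := by
  rw [genHom_apply, genHom_apply, ← Category.assoc, HMSec.comp_toSpec]

/-- The one-parameter subgroup `z ↦ λ(z⁻¹)` of the group. -/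
noncomputable def lamGm (lam : A →ₐc[k] k[T;T⁻¹]) : Red.Gm (Spec (CommRingCat.of k)) ⟶ G :=
  genHom e _ (lamC lam _ (GmPts.unitOfPt (𝟙 (Red.Gm (Spec (CommRingCat.of k)))))⁻¹)

theorem comp_lamGm (lam : A →ₐc[k] k[T;T⁻¹]) {T : Over (Spec (CommRingCat.of k))}
    (g : T ⟶ Red.Gm (Spec (CommRingCat.of k))) :
    g ≫ lamGm e lam = genHom e T (lamC lam _ (GmPts.unitOfPt g)⁻¹) := by
  rw [lamGm, comp_genHom]
  congr 1
  refine ofConv_injective ?_
  show (ev g).comp ((evC _).comp (lam : A →ₐ[k] k[T;T⁻¹])) = _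
  rw [← AlgHom.comp_assoc, comp_evC]
  congr 2

theorem isMonHom_lamGm (lam : A →ₐc[k] k[T;T⁻¹]) : IsMonHom (lamGm e lam) := by
  have hone : ∀ T, (1 : T ⟶ Red.Gm (Spec (CommRingCat.of k))) ≫ lamGm e lam = 1 := fun T => by
    rw [comp_lamGm, GmPts.unitOfPt_one, inv_one, map_one, map_one]
  refine ⟨?_, ?_⟩
  · have h := hone (𝟙_ (Over (Spec (CommRingCat.of k))))
    simpa [Hom.one_def] using h
  · have h : (fst _ _ * snd _ _ : Red.Gm (Spec (CommRingCat.of k)) ⊗ Red.Gm (Spec (CommRingCat.of k)) ⟶ _) ≫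
        lamGm e lam = (fst _ _ ≫ lamGm e lam) * (snd _ _ ≫ lamGm e lam) := by
      rw [comp_lamGm, comp_lamGm, comp_lamGm, GmPts.unitOfPt_mul, _root_.mul_inv, map_mul, map_mul]
    rw [Hom.mul_def, Hom.mul_def] at h
    simpa [tensorHom_def'] using h

theorem pullFn_comp_lamGm (lam : A →ₐc[k] k[T;T⁻¹]) {R : Type u} [CommRing R] [Algebra k R]
    (g : VecGrp.pt k R ⟶ Red.Gm (Spec (CommRingCat.of k))) (α : Fn G) :
    pullFn (g ≫ lamGm e lam) α = evC (HMSec.gmVal g)⁻¹ (lam (pullFn (univA e) α)) := by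
  rw [comp_lamGm, genHom_apply, GrpSchLib.Kunneth.pullFn_apply, ← GrpSchLib.Kunneth.ev_ev]
  let s : Fn (VecGrp.pt k R) →ₐ[k] R := pullFn (𝟙 (VecGrp.pt k R))
  show s (ev (HMSec.toSpec (VecGrp.pt k R) (lamC lam _ (GmPts.unitOfPt g)⁻¹).ofConv) (ev (univA e) α)) = _
  conv_lhs => rw [show ev (univA e) α = (Scheme.ΓSpecIso (CommRingCat.of A)).inv (pullFn (univA e) α) from
    (Iso.hom_inv_id_apply (Scheme.ΓSpecIso (CommRingCat.of A)) (ev (univA e) α)).symm]
  rw [HMSec.ev_toSpec]
  show (s.comp (evC _)) (lam (pullFn (univA e) α)) = _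
  rw [comp_evC]
  congr 2

end Groth.Agent.HMAmple
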