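import Groth.Agent.HMGit.Core
import Groth.Agent.ComodLib.Orbits

/-!
From a valued point of the group and a bounded vector to a one-parameter subgroup at a nearby rational vector.
-/

set_option autoImplicit false
set_option linter.style.haveILetI false
set_option linter.unusedSectionVars false

open WithConv Polynomial
open scoped LaurentPolynomial TensorProduct

universe u

namespace Groth.Agent.HMAmple

open HMGit

variable {k : Type u} [Field k] [IsAlgClosed k] [CharZero k] {A : Type u} [CommRing A] [HopfAlgebra k A]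
  [Algebra.FiniteType k A] {N : ℕ}

/-- A valued point moving a bounded vector to a bounded one without being bounded gives a non-trivial one-parameter
subgroup with a limit at a rational vector off a given hypersurface. -/
theorem exists_oneParam_family (π : CoordGrp.GLn N k →ₐc[k] A) (hπ : Function.Surjective π)
    (hA : HopfRep.IsLinearlyReductive k A) {K : Type u} [Field K] [Algebra k K] (V : ValuationSubring K)
    (hk : ∀ a : k, algebraMap k K a ∈ V) (ψ : A →ₐ[k] K) (w : Fin N → V)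
    (hV : ∀ q, Matrix.vecMul (fun i => (w i : K)) (mat (ofSub π (toConv ψ))) q ∈ V)
    (F : MvPolynomial (Fin N) k) (hF : MvPolynomial.aeval (fun i => (w i : K)) F ∉ V.nonunits)
    (O : Set (MvPolynomial (Fin N) k)) (hO : ∀ P ∈ O, MvPolynomial.aeval (fun i => (w i : K)) P = 0) {a : A} (ha : ψ a ∉ V) :
    ∃ (w₀ : Fin N → k) (lam : A →ₐc[k] k[T;T⁻¹]), MvPolynomial.eval w₀ F ≠ 0 ∧ (∀ P ∈ O, MvPolynomial.eval w₀ P = 0) ∧
      ¬ SGA3t2b.IsTrivialBialgHom lam ∧
      ∀ q n, n < 0 → (rowVec π (lam : A →ₐ[k] k[T;T⁻¹]) w₀ q).coeff n = 0 := by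
  classical
  let B := CoordGrp.GLn N k
  letI algV : Algebra k V := ((algebraMap k K).codRestrict V.toSubring hk).toAlgebra
  let incl : V →ₐ[k] K := ⟨V.subtype, fun a => rfl⟩
  let Ψ : Pt k N K := ofSub π (toConv ψ)
  obtain ⟨p, q, d, hp, hq, hpdq⟩ := SmoothFormLib.exists_diagonalisation V (Fin N) (mat Ψ)
  have hd : ∀ j, d j ≠ 0 := by
    have h : IsUnit (mat Ψ).det := (Matrix.isUnit_iff_isUnit_det _).mp (isUnit_mat Ψ)
    rw [hpdq, Matrix.det_mul, Matrix.det_mul, Matrix.det_diagonal, IsUnit.mul_iff, IsUnit.mul_iff] at h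
    exact fun j => Finset.prod_ne_zero_iff.mp h.1.2.ne_zero j (Finset.mem_univ j)
  let de : Fin N → Kˣ := fun j => Units.mk0 (d j) (hd j)
  let P : Pt k N V := mkPt p hp
  let Q : Pt k N V := mkPt q hq
  have hfac : Ψ = push incl P * diagPt de * push incl Q := by
    refine pt_ext ?_
    rw [mat_mul, mat_mul, mat_push, mat_push, mat_diagPt, mat_mkPt, mat_mkPt]
    exact hpdq
  have hrot : diagPt de⁻¹ * push incl P⁻¹ = push incl Q * (Ψ)⁻¹ := by
    rw [hfac, ← diagPt_inv, map_inv]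
    group
  -- valuations
  let Γ := V.ValueGroup
  let x : Fin N → Γˣ := fun j => Units.mk0 (V.valuation (d j)) ((Valuation.ne_zero_iff _).mpr (hd j))
  let cx : (Fin N → ℤ) → Γˣ := fun χ => ∏ j, x j ^ χ j
  have hXval : ∀ χ : Fin N → ℤ, V.valuation (wt de (Multiplicative.ofAdd χ)) = (cx χ : Γ) := fun χ => by
    rw [wt_apply, Units.coe_prod, Units.coe_prod, map_prod]
    refine Finset.prod_congr rfl fun j _ => ?_
    rw [Units.val_zpow_eq_zpow_val, Units.val_zpow_eq_zpow_val, map_zpow₀]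
    rfl
  obtain ⟨n, g, χ, hg, hwt, hgen⟩ := exists_homogeneous_generators π hA
  have hlow : ∀ i, cx (χ i) < 1 → (P⁻¹ : Pt k N V) (g i) ∈ IsLocalRing.maximalIdeal V := fun i hi => by
    have h1 : (diagPt de⁻¹ * push incl P⁻¹ : Pt k N K) (g i) = incl (Q (g i)) := by
      rw [hrot, show (Ψ)⁻¹ = ofSub π (toConv ψ)⁻¹ from (map_inv _ _).symm, inv_apply_mul π (hg i)]
      rfl
    rw [(hwt i).apply] at h1
    rw [IsLocalRing.mem_maximalIdeal, mem_nonunits_iff]
    intro hu
    have h2 : V.valuation (incl ((P⁻¹ : Pt k N V) (g i))) = 1 := (V.valuation_eq_one_iff _).mp hu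
    have hv := congrArg V.valuation h1
    rw [map_mul, show (push incl P⁻¹ : Pt k N K) (g i) = incl ((P⁻¹ : Pt k N V) (g i)) from rfl, h2, one_mul] at hv
    have h3 : wt de⁻¹ (Multiplicative.ofAdd (χ i)) * wt de (Multiplicative.ofAdd (χ i)) = 1 := by
      rw [← wt_mul, inv_mul_cancel, wt_one]
    have h4 : V.valuation (wt de⁻¹ (Multiplicative.ofAdd (χ i))) ≤ 1 := hv ▸ V.valuation_le_one _
    have h5 := congrArg V.valuation h3
    rw [map_mul, map_one, hXval] at h5
    exact absurd h5 (ne_of_lt (lt_of_le_of_lt (mul_le_of_le_one_left' h4) (Units.val_lt_val.mpr hi)))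
  -- the vector
  let wV : Fin N → V := fun j => Matrix.vecMul w p j
  have hwV : ∀ j, V.valuation (wV j : K) * (x j : Γ) ≤ 1 := by
    intro j
    obtain ⟨qi, -, hqi⟩ : ∃ qi : Matrix (Fin N) (Fin N) V, qi * q = 1 ∧ q * qi = 1 := by
      obtain ⟨u, rfl⟩ := hq
      exact ⟨↑u⁻¹, u.inv_mul, u.mul_inv⟩
    have h1 : ∀ i, (wV i : K) = Matrix.vecMul (fun i => (w i : K)) (p.map V.subtype) i := fun i => by
      simp only [wV, Matrix.vecMul, dotProduct, Matrix.map_apply]
      rw [show ((∑ l, w l * p l i : V) : K) = V.subtype _ from rfl, map_sum]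
      rfl
    have h2 : (wV j : K) * d j = ∑ l, Matrix.vecMul (fun i => (w i : K)) (mat Ψ) l * (qi l j : K) := by
      have h3 : Matrix.vecMul (Matrix.vecMul (fun i => (w i : K)) (mat Ψ)) (qi.map V.subtype) =
          Matrix.vecMul (Matrix.vecMul (fun i => (w i : K)) (p.map V.subtype)) (Matrix.diagonal d) := by
        rw [hpdq, Matrix.vecMul_vecMul, Matrix.vecMul_vecMul,
          mul_assoc, ← Matrix.map_mul (f := V.subtype), hqi, Matrix.map_one _ (map_zero _) (map_one _), mul_one]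
      have h4 := congrFun h3 j
      rw [Matrix.vecMul_diagonal, ← h1] at h4
      exact h4.symm
    rw [show (x j : Γ) = V.valuation (d j) from rfl, ← map_mul, h2]
    exact V.valuation.map_sum_le fun l _ =>
      (map_mul _ _ _).trans_le (mul_le_one' ((V.valuation_le_one_iff _).mpr (hV l)) (V.valuation_le_one _))
  let J : Fin N → Prop := fun j => 1 < x j
  have hwJ : ∀ j, J j → wV j ∈ IsLocalRing.maximalIdeal V := fun j hj => by
    rw [IsLocalRing.mem_maximalIdeal, mem_nonunits_iff]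
    intro hu
    have h2 : V.valuation (wV j : K) = 1 := (V.valuation_eq_one_iff _).mp hu
    have := hwV j
    rw [h2, one_mul] at this
    exact absurd this (not_le.mpr (Units.val_lt_val.mpr hj))
  -- a rational point
  let res : V →ₐ[k] IsLocalRing.ResidueField V := IsScalarTower.toAlgHom k V _
  haveI : Algebra.FiniteType k (CoordGrp.GLb N k) :=
    inferInstanceAs (Algebra.FiniteType k (MvPolynomial (CoordGrp.GLPoly.Idx N) k))
  haveI : Algebra.FiniteType k (CoordGrp.GLn N k) :=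
    Algebra.FiniteType.of_surjective (CoordGrp.GLn.mk N k) Ideal.Quotient.mk_surjective
  let B' := MvPolynomial (Fin N) B
  haveI : Algebra.FiniteType k B' := Algebra.FiniteType.trans (S := B) inferInstance inferInstance
  let fw' : Fin N → B' := fun j =>
    ∑ i, MvPolynomial.X i * MvPolynomial.C (HopfAlgebra.antipode k (CoordGrp.GLn.X i j : B))
  let I : Ideal B' := Ideal.span
    (((Set.range fun i : {i // cx (χ i) < 1} => MvPolynomial.C (g i.1)) ∪ Set.range fun j : {j // J j} => fw' j.1) ∪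
      MvPolynomial.map (algebraMap k B) '' O)
  let ρ : B' →ₐ[k] IsLocalRing.ResidueField V :=
    MvPolynomial.aevalTower (res.comp (P⁻¹ : Pt k N V).ofConv) fun i => res (w i)
  have hρX : ∀ i, ρ (MvPolynomial.X i) = res (w i) := fun i => MvPolynomial.aevalTower_X _ _ i
  have hρC : ∀ b, ρ (MvPolynomial.C b) = res ((P⁻¹ : Pt k N V) b) := fun b => MvPolynomial.aevalTower_C _ _ b
  have hmapEq : ∀ {R : Type u} [CommRing R] [Algebra k R] (φ : B' →ₐ[k] R) (P : MvPolynomial (Fin N) k),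
      φ (MvPolynomial.map (algebraMap k B) P) = MvPolynomial.aeval (fun i => φ (MvPolynomial.X i)) P := fun φ P => by
    rw [show MvPolynomial.map (algebraMap k B) P = MvPolynomial.mapAlgHom (Algebra.ofId k B) P from rfl,
      ← AlgHom.comp_apply]
    congr 1
    exact MvPolynomial.algHom_ext fun i => by
      rw [AlgHom.comp_apply, MvPolynomial.aeval_X]
      exact congrArg φ (MvPolynomial.map_X _ i)
  let F' : B' := MvPolynomial.map (algebraMap k B) F
  have hF' : ∀ {R : Type u} [CommRing R] [Algebra k R] (φ : B' →ₐ[k] R),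
      φ F' = MvPolynomial.aeval (fun i => φ (MvPolynomial.X i)) F := fun φ => hmapEq φ F
  have hρI : I ≤ RingHom.ker ρ := Ideal.span_le.mpr (by
    rintro _ ((⟨i, rfl⟩ | ⟨j, rfl⟩) | ⟨q, hq', rfl⟩)
    rotate_left 2
    · show ρ (MvPolynomial.map (algebraMap k B) q) = 0
      rw [hmapEq ρ q]
      simp only [hρX]
      rw [show MvPolynomial.aeval (fun i => res (w i)) q = res (MvPolynomial.aeval w q) from
        (AlgHom.congr_fun (MvPolynomial.comp_aeval w res) q).symm,
        show MvPolynomial.aeval w q = 0 from Subtype.ext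
          ((AlgHom.congr_fun (MvPolynomial.comp_aeval w incl) q).trans (hO q hq')), map_zero]
    · show ρ (MvPolynomial.C (g i.1)) = 0
      rw [hρC]
      exact IsLocalRing.residue_eq_zero_iff _ |>.mpr (hlow _ i.2)
    · show ρ (fw' j.1) = 0
      refine Eq.trans ?_ (IsLocalRing.residue_eq_zero_iff (wV j.1) |>.mpr (hwJ _ j.2))
      have hP : ∀ i, (P⁻¹ : Pt k N V) (HopfAlgebra.antipode k (CoordGrp.GLn.X i j.1 : B)) = p i j.1 := fun i => by
        rw [← HMGit.inv_apply, inv_inv]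
        exact congrFun (congrFun (mat_mkPt p hp) i) j.1
      simp only [fw', map_sum, map_mul, hρX, hρC, wV, Matrix.vecMul, dotProduct]
      refine Finset.sum_congr rfl fun i _ => ?_
      rw [hP]
      rfl)
  have hnil : ¬ IsNilpotent (Ideal.Quotient.mkₐ k I F') := fun hn => by
    have h1 := (hn.map (Ideal.Quotient.liftₐ I ρ fun y hy => hρI hy)).eq_zero
    rw [show Ideal.Quotient.liftₐ I ρ (fun y hy => hρI hy) (Ideal.Quotient.mkₐ k I F') = ρ F' from rfl, hF'] at h1
    simp only [hρX] at h1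
    have h2 : MvPolynomial.aeval (fun i => res (w i)) F = res (MvPolynomial.aeval w F) :=
      AlgHom.congr_fun (MvPolynomial.comp_aeval w res).symm F
    rw [h2] at h1
    have h3 : (IsLocalRing.residue V (MvPolynomial.aeval w F)) = 0 := h1
    rw [IsLocalRing.residue_eq_zero_iff, IsLocalRing.mem_maximalIdeal] at h3
    refine hF ?_
    rw [show MvPolynomial.aeval (fun i => (w i : K)) F = incl (MvPolynomial.aeval w F) from
      (AlgHom.congr_fun (MvPolynomial.comp_aeval w incl) F).symm]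
    exact ValuationSubring.coe_mem_nonunits_iff.mpr h3
  obtain ⟨c₁, hc₁⟩ := ComodLib.exists_point_ne_zero (k := k) hnil
  let c₂ : B' →ₐ[k] k := c₁.comp (Ideal.Quotient.mkₐ k I)
  have hc₂ : ∀ y ∈ I, c₂ y = 0 := fun y hy => by
    show c₁ (Ideal.Quotient.mk I y) = 0
    rw [Ideal.Quotient.eq_zero_iff_mem.mpr hy, map_zero]
  let w₀ : Fin N → k := fun i => c₂ (MvPolynomial.X i)
  have hw₀ : MvPolynomial.eval w₀ F ≠ 0 := by
    rw [← MvPolynomial.aeval_eq_eval, ← hF']
    exact hc₁
  let c : Pt k N k := toConv (c₂.comp (IsScalarTower.toAlgHom k B B'))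
  let fw : Fin N → B := fun j => ∑ i, algebraMap k B (w₀ i) * HopfAlgebra.antipode k (CoordGrp.GLn.X i j : B)
  have hfw : ∀ {C : Type u} [CommRing C] [Algebra k C] (y : Pt k N C) (j : Fin N),
      y (fw j) = Matrix.vecMul (fun i => algebraMap k C (w₀ i)) (mat y⁻¹) j := by
    intro C _ _ y j
    simp only [fw, map_sum, map_mul, Matrix.vecMul, dotProduct]
    exact Finset.sum_congr rfl fun i _ => congrArg (· * _) (y.ofConv.commutes (w₀ i))
  -- the weights
  let φ : (Fin N → ℤ) →+ Additive Γˣ :=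
    { toFun := fun χ => Additive.ofMul (cx χ)⁻¹
      map_zero' := by simp [cx]
      map_add' := fun a b => by
        rw [← ofMul_mul, ← mul_inv]
        congr 2
        simp only [cx, Pi.add_apply, zpow_add, Finset.prod_mul_distrib] }
  have hφ0 : ∀ χ, 0 ≤ φ χ ↔ cx χ ≤ 1 := fun χ => (one_le_inv' (a := cx χ))
  have hφ1 : ∀ χ, 0 < φ χ ↔ cx χ < 1 := fun χ => (one_lt_inv' (a := cx χ))
  have hXs : ∀ j, cx (Pi.single j 1) = x j := fun j => by
    simp only [cx]
    rw [Finset.prod_eq_single j (fun l _ hl => by simp [hl]) (by simp)]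
    simp
  let W : {j // x j ≤ 1} ⊕ {i // 1 ≤ cx (χ i)} → Fin N → ℤ :=
    Sum.elim (fun j => Pi.single j.1 1) fun i => -χ i.1
  let S : {j // x j < 1} ⊕ {j // 1 < x j} → Fin N → ℤ :=
    Sum.elim (fun j => Pi.single j.1 1) fun j => -Pi.single j.1 1
  have hXneg : ∀ a, cx (-a) = (cx a)⁻¹ := fun a => by simp [cx]
  obtain ⟨r, hrW, hrS⟩ := exists_functional φ W S
    (by rintro (j | i)
        · exact (hφ0 _).mpr ((hXs _).trans_le j.2)
        · exact (hφ0 _).mpr ((hXneg _).trans_le (inv_le_one'.mpr i.2)))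
    (by rintro (j | j)
        · exact (hφ1 _).mpr ((hXs _).trans_lt j.2)
        · exact (hφ1 _).mpr ((hXneg _).trans_lt (inv_lt_one'.mpr ((hXs _).symm ▸ j.2))))
  have hpair : ∀ j, pair r (Pi.single j 1) = r j := fun j => by simp [pair, Pi.single_apply]
  have hr0 : ∀ j, x j ≤ 1 → 0 ≤ r j := fun j hj => (hrW (Sum.inl ⟨j, hj⟩)).trans_eq (hpair j)
  have hr1 : ∀ j, x j < 1 → 0 < r j := fun j hj => (hrS (Sum.inl ⟨j, hj⟩)).trans_eq (hpair j)
  have hrχ : ∀ i, 1 ≤ cx (χ i) → 0 ≤ pair (-r) (χ i) := fun i hi => by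
    have h := hrW (Sum.inr ⟨i, hi⟩)
    simpa [W, pair] using h
  obtain ⟨γ, ⟨Z, hZ⟩, hfix⟩ := exists_attractor π hA hπ g χ hg hwt hgen (-r) c fun i hi =>
    hc₂ _ (Ideal.subset_span (Or.inl (Or.inl ⟨⟨i, lt_of_not_ge fun h => absurd (hrχ i h) (not_le.mpr hi)⟩, rfl⟩)))
  obtain ⟨g', hg'⟩ := exists_eq_mul_ofSub π hA hπ γ (dT k (-r) * cst k[T;T⁻¹] γ) hfix
  rw [dT_neg] at hg' hZ
  have hlamPt : ofSub π g'⁻¹ = (cst k[T;T⁻¹] γ)⁻¹ * dT k r * cst k[T;T⁻¹] γ := by
    rw [map_inv, show ofSub π g' = (cst k[T;T⁻¹] γ)⁻¹ * ((dT k r)⁻¹ * cst k[T;T⁻¹] γ) by rw [hg']; group]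
    group
  obtain ⟨lam, hlam⟩ := exists_bialgHom π hπ r γ g'⁻¹ hlamPt
  have hrow : rowVec π (lam : A →ₐ[k] k[T;T⁻¹]) w₀ =
      Matrix.vecMul (fun j => algebraMap k k[T;T⁻¹] (c (fw j)) * LaurentPolynomial.T (r j))
        ((mat (Z * cst k[X] ((c * γ⁻¹)⁻¹ * c))).map toL) := by
    have h1 : (cst k[T;T⁻¹] γ)⁻¹ * dT k r * cst k[T;T⁻¹] γ =
        cst k[T;T⁻¹] c⁻¹ * dT k r * push toL (Z * cst k[X] ((c * γ⁻¹)⁻¹ * c)) := by
      rw [map_mul (push toL), hZ, push_cst]
      simp only [map_mul, map_inv]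
      group
    rw [rowVec_eq, hlam, toConv_ofConv, hlamPt, h1, mat_mul, mat_mul, mat_push, mat_dT, mat_push,
      ← Matrix.vecMul_vecMul, ← Matrix.vecMul_vecMul]
    congr 1
    funext j
    rw [Matrix.vecMul_diagonal, hfw]
    congr 1
    simp [Matrix.vecMul, dotProduct, map_sum]
  have hcJ : ∀ j, J j → c (fw j) = 0 := fun j hj => by
    refine Eq.trans ?_ (hc₂ _ (Ideal.subset_span (Or.inl (Or.inr ⟨⟨j, hj⟩, rfl⟩))))
    show c₂ (algebraMap B B' (fw j)) = c₂ (fw' j)
    simp only [fw, fw', map_sum, map_mul, ← IsScalarTower.algebraMap_apply k B B', AlgHom.commutes]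
    rfl
  have hcoord : ∀ (m : ℤ) (l : Fin N), (∀ j, c (fw j) ≠ 0 → m < r j) →
      (rowVec π (lam : A →ₐ[k] k[T;T⁻¹]) w₀ l).coeff m = 0 := fun m l hm => by
    rw [hrow, Matrix.vecMul, dotProduct, AddMonoidAlgebra.coeff_sum, Finsupp.finsetSum_apply]
    refine Finset.sum_eq_zero fun j _ => ?_
    rw [Matrix.map_apply, mul_assoc, ← Algebra.smul_def, AddMonoidAlgebra.coeff_smul_apply]
    by_cases h : c (fw j) = 0
    · rw [h, zero_smul]
    · rw [ComodLib.coeff_T_mul, (ComodLib.mem_range_toLaurent _).mp ⟨_, rfl⟩ _ (by have := hm j h; omega), smul_zero]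
  refine ⟨w₀, lam, hw₀, fun q hq' => by
    rw [← MvPolynomial.aeval_eq_eval]
    exact (hmapEq c₂ q).symm.trans (hc₂ _ (Ideal.subset_span (Or.inr ⟨q, hq', rfl⟩))), fun htriv => ?_, fun l m hm => hcoord m l fun j hj => ?_⟩
  swap
  · exact lt_of_lt_of_le hm (hr0 j (not_lt.mp fun h => hj (hcJ j h)))
  ·
    have hr : r = 0 := by
      have h1 : ofSub π g'⁻¹ = (1 : Pt k N k[T;T⁻¹]) := ofConv_injective (AlgHom.ext fun b => by
        show g'⁻¹ (π b) = _
        rw [show g'⁻¹ (π b) = lam (π b) from (AlgHom.congr_fun hlam (π b)).symm, htriv,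
          CoalgHomClass.counit_comp_apply]
        rfl)
      have h2 : dT k r = 1 := by
        rw [hlamPt, mul_assoc, inv_mul_eq_one] at h1
        simpa using h1.symm
      funext j
      have h3 := congrArg (fun y : Pt k N k[T;T⁻¹] => mat y j j) h2
      simp only [mat_dT, mat_one, Matrix.diagonal_apply_eq, Matrix.one_apply_eq] at h3
      have h4 := congrArg (fun y : k[T;T⁻¹] => y.coeff (r j)) h3
      simp only [← LaurentPolynomial.T_zero, LaurentPolynomial.T_apply, if_true] at h4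
      by_contra hne
      rw [if_neg (fun h => hne h.symm)] at h4
      exact one_ne_zero h4
    have hx : ∀ j, x j = 1 := fun j => by
      rcases lt_trichotomy (x j) 1 with h | h | h
      · have := hr1 j h
        simp [hr] at this
      · exact h
      · have := hrS (Sum.inr ⟨j, h⟩)
        simp [hr, pair] at this
    refine ha ?_
    obtain ⟨b, rfl⟩ := hπ a
    have hdV : ∀ j, d j ∈ V ∧ (d j)⁻¹ ∈ V := fun j => by
      have h : V.valuation (d j) = 1 := congrArg Units.val (hx j)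
      exact ⟨(V.valuation_le_one_iff _).mp h.le, (V.valuation_le_one_iff _).mp (by rw [map_inv₀, h, inv_one])⟩
    let dV : Fin N → Vˣ := fun j => ⟨⟨d j, (hdV j).1⟩, ⟨(d j)⁻¹, (hdV j).2⟩,
      Subtype.ext (mul_inv_cancel₀ (hd j)), Subtype.ext (inv_mul_cancel₀ (hd j))⟩
    have hΨ : Ψ = push incl (P * diagPt dV * Q) := by
      rw [hfac, map_mul, map_mul, push_diagPt]
      rfl
    show Ψ b ∈ V
    rw [hΨ]
    exact SetLike.coe_mem _

end Groth.Agent.HMAmple
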