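import Groth.Agent.HMAmple.Model
import Groth.Agent.HMAmple.LinCoact

/-!
The linear action on the coordinates of a stable finite family of weight functions.
-/

set_option autoImplicit false
set_option linter.unusedSectionVars false
set_option linter.style.haveILetI false
set_option backward.isDefEq.respectTransparency false
set_option backward.isDefEq.respectTransparency.types false

universe u

open CategoryTheory CategoryTheory.Limits MonoidalCategory CartesianMonoidalCategory MonObj GrpObj AlgebraicGeometry
open Opposite TopologicalSpace WithConv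
open Groth.Agent.GrpSchLib.Kunneth (Fn ev pullFn)
open Groth.Agent.GrpSchLib.AffineHopf (sp spMap)

namespace Groth.Agent.HMAmple

variable {k : Type u} [Field k] [IsAlgClosed k] {A : Type u} [CommRing A] [HopfAlgebra k A]
  [Algebra.FiniteType k A] [_root_.IsReduced A]
  {G V : Over (Spec (CommRingCat.of k))} [GrpObj G] [QuasiCompact G.hom] [IsSeparated G.hom]
  [QuasiCompact V.hom] [IsSeparated V.hom] (e : Grp.mk (sp k A) ≅ Grp.mk G) (Φ : AlgGrp.Action G V)
  {n : ℕ} (f : Fin n → Fn V) (M : Fin n → Fin n → Fn G)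

/-- The matrix of the contragredient action. -/
noncomputable def repMatrix (i j : Fin n) : A := HopfAlgebra.antipode k (pullFn (univA e) (M j i))

theorem apply_repMatrix (φ : WithConv (A →ₐ[k] k)) (i j : Fin n) :
    φ.ofConv (repMatrix e M i j) = val (ptHom e φ⁻¹) (M j i) := by
  rw [val_ptHom, repMatrix]
  exact (HMGit.inv_apply φ _).symm

variable (hf : LinearIndependent k f) (hM : ∀ g i, trA Φ g (f i) = ∑ j, val g (M i j) • f j)

include hf hM in
theorem val_matrix_mul (g h : 𝟙_ (Over (Spec (CommRingCat.of k))) ⟶ G) (i j : Fin n) :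
    val (g * h) (M i j) = ∑ l, val g (M i l) * val h (M l j) := by
  have h1 : ∑ m, val (g * h) (M i m) • f m = ∑ m, (∑ l, val g (M i l) * val h (M l m)) • f m := by
    rw [← hM, trA_mul, hM, map_sum]
    simp only [map_smul, hM, Finset.smul_sum, smul_smul, Finset.sum_smul]
    exact Finset.sum_comm
  exact congrFun (funext fun m => sub_eq_zero.mp (Fintype.linearIndependent_iff.mp hf
    (fun m => val (g * h) (M i m) - ∑ l, val g (M i l) * val h (M l m))
    (by simp only [sub_smul, Finset.sum_sub_distrib, h1, sub_self]) m)) j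

include hf hM in
theorem val_matrix_one (i j : Fin n) :
    val (1 : 𝟙_ (Over (Spec (CommRingCat.of k))) ⟶ G) (M i j) = if i = j then 1 else 0 := by
  have h1 := hM 1 i
  rw [trA_one] at h1
  have h2 : ∀ m, val (1 : 𝟙_ (Over (Spec (CommRingCat.of k))) ⟶ G) (M i m) - (if i = m then 1 else 0) = 0 :=
    Fintype.linearIndependent_iff.mp hf _ (by
      simp only [sub_smul, Finset.sum_sub_distrib, ← h1]
      simp)
  exact sub_eq_zero.mp (h2 j)

include hf hM in
theorem isComodMatrix_repMatrix : ComodLib.IsComodMatrix k (repMatrix e M) := by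
  refine isComodMatrix_of_points (fun φ ψ i j => ?_) fun i j => ?_
  · simp only [apply_repMatrix, _root_.mul_inv_rev, map_mul, val_matrix_mul Φ f M hf hM]
    exact Finset.sum_congr rfl fun l _ => mul_comm _ _
  · rw [apply_repMatrix, inv_one, map_one, val_matrix_one Φ f M hf hM]
    simp [eq_comm]

include hM in
/-- Translating the family is the substitution in the variables. -/
theorem trA_aeval (φ : WithConv (A →ₐ[k] k)) (F : MvPolynomial (Fin n) k) :
    trA Φ (ptHom e φ⁻¹) (MvPolynomial.aeval f F) =
      MvPolynomial.aeval f (subst (repMatrix e M) φ.ofConv F) := by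
  have h : (trA Φ (ptHom e φ⁻¹)).comp (MvPolynomial.aeval f) =
      (MvPolynomial.aeval f).comp (subst (repMatrix e M) φ.ofConv) := MvPolynomial.algHom_ext fun b => by
    simp only [AlgHom.comp_apply, MvPolynomial.aeval_X, subst, map_sum, map_smul, hM, apply_repMatrix]
  exact DFunLike.congr_fun h F

include hM in
/-- An invariant polynomial gives an invariant function. -/
theorem isInvFn_aeval [IsReduced G.left] [LocallyOfFiniteType G.hom] (hP : ComodLib.IsComodMatrix k (repMatrix e M))
    {F : MvPolynomial (Fin n) k}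
    (hF : F ∈ @GLin.invariants k _ A _ _ (MvPolynomial (Fin n) k) _ _ (linComod (repMatrix e M) hP)
      (isCoactAlg_linComod (repMatrix e M) hP)) :
    GLinSh.IsInvFn Φ (MvPolynomial.aeval f F) := by
  show ev Φ.act (MvPolynomial.aeval f F) = ev (snd G V) (MvPolynomial.aeval f F)
  refine prod_ext fun g => ?_
  obtain ⟨φ, rfl⟩ := ptHom_surjective e g
  have h := trA_aeval e Φ f M hM φ⁻¹ F
  rw [_root_.inv_inv, subst_invariant _ hP hF] at h
  rw [GrpSchLib.Kunneth.ev_ev, GrpSchLib.Kunneth.ev_ev, lift_snd, GrpSchLib.Kunneth.ev_id]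
  exact h

include hM in
/-- The coordinates of a translated vector. -/
theorem pullFn_translate (φ : WithConv (A →ₐ[k] k)) (v : VecGrp.pt k k ⟶ V) (i : Fin n) :
    pullFn (lift (HMSec.cst (ptHom e φ⁻¹) k) v ≫ Φ.act) (f i) =
      ∑ a, φ.ofConv (repMatrix e M a i) * pullFn v (f a) := by
  have h := congrArg (pullFn v) (hM (ptHom e φ⁻¹) i)
  rw [map_sum, trA, GrpSchLib.Kunneth.pullFn_apply, GrpSchLib.Kunneth.ev_ev, ← Category.assoc, comp_lift,
    Category.comp_id, ← Category.assoc, comp_toUnit] at h
  refine (GrpSchLib.Kunneth.pullFn_apply _ _).trans (h.trans (Finset.sum_congr rfl fun a _ => ?_))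
  rw [map_smul, smul_eq_mul, apply_repMatrix]

include hM in
/-- The expansion of the action on the family. -/
theorem ev_act [IsReduced G.left] [LocallyOfFiniteType G.hom] (i : Fin n) :
    ev Φ.act (f i) = ∑ a, ev (fst G V) (M i a) * ev (snd G V) (f a) := by
  refine prod_ext fun g => ?_
  rw [map_sum, GrpSchLib.Kunneth.ev_ev]
  exact (hM g i).trans (Finset.sum_congr rfl fun a _ => (ev_slice g (M i a) (f a)).symm)

include hM in
theorem pullFn_act [IsReduced G.left] [LocallyOfFiniteType G.hom] {R : Type u} [CommRing R] [Algebra k R]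
    (g : VecGrp.pt k R ⟶ G) (v : VecGrp.pt k R ⟶ V) (i : Fin n) :
    pullFn (lift g v ≫ Φ.act) (f i) = ∑ a, pullFn g (M i a) * pullFn v (f a) := by
  rw [GrpSchLib.Kunneth.pullFn_apply, ← GrpSchLib.Kunneth.ev_ev, ev_act Φ f M hM i, map_sum, map_sum]
  refine Finset.sum_congr rfl fun a _ => ?_
  rw [map_mul, GrpSchLib.Kunneth.ev_ev, GrpSchLib.Kunneth.ev_ev, lift_fst, lift_snd]
  exact map_mul _ _ _

end Groth.Agent.HMAmple
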