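import Groth.Agent.HMAmple.Trivial
import Groth.Agent.HMAmple.Transport
import Groth.Agent.Obs28.Unip.Torus

/-!
The numerical criterion for proper stability of a rational point for an ample linearised bundle.
-/

set_option autoImplicit false
set_option linter.unusedSectionVars false
set_option linter.style.haveILetI false
set_option backward.isDefEq.respectTransparency false
set_option backward.isDefEq.respectTransparency.types false

universe u

open CategoryTheory CategoryTheory.Limits MonoidalCategory CartesianMonoidalCategory MonObj GrpObj AlgebraicGeometry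
open Opposite TopologicalSpace WithConv LaurentPolynomial
open Groth.Agent.GrpSchLib.Kunneth (Fn ev pullFn)
open Groth.Agent.GrpSchLib.AffineHopf (sp spMap)

namespace Groth.Agent.HMAmple

open HMSec

variable {k : Type u} [Field k] [IsAlgClosed k] {G X : Over (Spec (CommRingCat.of k))} [GrpObj G]
variable {a : AlgGrp.Action G X}

local notation "𝟏" => (𝟙_ (Over (Spec (CommRingCat.of k))))

/-- Rational points are determined by their images. -/
theorem pt_ext {Z : Over (Spec (CommRingCat.of k))} [LocallyOfFiniteType Z.hom] {f g : 𝟏 ⟶ Z}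
    (h : f.left.base (IsLocalRing.closedPoint k) = g.left.base (IsLocalRing.closedPoint k)) : f = g :=
  Over.OverMorphism.ext (ext_of_apply_closedPoint_eq Z.hom (Over.w f) (Over.w g) h)

/-- A closed point is the image of a rational point. -/
theorem exists_pt {Z : Over (Spec (CommRingCat.of k))} [LocallyOfFiniteType Z.hom] {z : Z.left}
    (hz : IsClosed ({z} : Set Z.left)) : ∃ g : 𝟏 ⟶ Z, g.left.base (IsLocalRing.closedPoint k) = z :=
  ⟨Over.homMk _ ((pointEquivClosedPoint Z.hom).symm ⟨z, hz⟩).2,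
    congrArg Subtype.val ((pointEquivClosedPoint Z.hom).apply_symm_apply ⟨z, hz⟩)⟩

theorem subsingleton_unit : Subsingleton ((𝟙_ (Over (Spec (CommRingCat.of k)))).left : Scheme.{u}) :=
  inferInstanceAs (Subsingleton (PrimeSpectrum k))

/-- The limit along a subgroup with zero weight stays in the locus of an invariant section. -/
theorem mem_of_weight_zero [IsProper X.hom] (B : GLinSh.LinBun G a) (hB : HMNum.AmpleCover B)
    {l : Red.Gm (Spec (CommRingCat.of k)) ⟶ G} [IsMonHom l] {x y : 𝟏 ⟶ X} (hy : HMNum.IsLimitPt a l x y)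
    (hw : HMNum.HasFibreWeight B l y 0) {v₀ : VecGrp.pt k k ⟶ B.V} (hv₀ : v₀ ≫ B.π = cst x k) (hg₀ : Gd B v₀)
    {n : ℕ} {f : Fn B.V} (hf : B.IsInvSection n f) (hf0 : pullFn v₀ f ≠ 0)
    (p : (𝟙_ (Over (Spec (CommRingCat.of k)))).left) : y.left.base p ∈ GLinSh.nonvanishing B.π f := by
  obtain ⟨N, vR, s, c, hN, hgR, hclosed, hs, hpow⟩ := exists_scale B hB hy hw hv₀ hg₀
  have hinv : pullFn (lift (gmPt (k := k) (ffU k) ≫ l) (VecGrp.ptMap (Algebra.ofId k (FF k)) ≫ v₀) ≫ B.lift.act) f =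
      algebraMap k (FF k) (pullFn v₀ f) := by
    have h : ev (B.lift.act) f = ev (snd G B.V) f := hf.2
    rw [GrpSchLib.Kunneth.pullFn_apply, ← GrpSchLib.Kunneth.ev_ev, h, GrpSchLib.Kunneth.ev_ev, lift_snd,
      ← GrpSchLib.Kunneth.pullFn_apply, GrpSchLib.Kunneth.pullFn_ptMap]
    rfl
  have h1 := isHom_of_hasWeight B hf.1 (FF k) _ _ _ hs
  rw [hinv, GrpSchLib.Kunneth.pullFn_ptMap] at h1
  have h2 := congrArg (fun z => z ^ N) h1
  simp only [mul_pow, ← pow_mul] at h2
  rw [mul_comm n N, pow_mul s, hpow, mul_pow, mul_zero, _root_.zpow_zero, Units.val_one, _root_.one_pow,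
    _root_.one_mul, ← (locToFF (k := k)).commutes] at h2
  replace h2 : locToFF ((algebraMap k (Loc k) (pullFn v₀ f)) ^ N) = locToFF ((c : Loc k) ^ n * pullFn vR f ^ N) := by
    simpa only [map_mul, map_pow, _root_.one_mul] using h2
  have h3 : IsUnit ((c : Loc k) ^ n * pullFn vR f ^ N) :=
    ff_injective h2 ▸ ((isUnit_iff_ne_zero.mpr hf0).map (algebraMap k (Loc k))).pow N
  have h4 : IsUnit (pullFn vR f) := (isUnit_pow_iff (by omega)).mp (isUnit_of_mul_isUnit_right h3)
  rw [← base_eq hclosed p, HMSec.mem_nonvanishing_iff B hf.1 _ (hgR.map B locEval), GrpSchLib.Kunneth.pullFn_ptMap]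
  exact (h4.map locEval).ne_zero

/-- A limit point in an open with closed orbits is a translate. -/
theorem exists_translate_of_closedOrbits [LocallyOfFiniteType G.hom] [LocallyOfFiniteType X.hom]
    {U : X.left.Opens} (hU : GLinSh.ClosedOrbitsOn a U) {l : Red.Gm (Spec (CommRingCat.of k)) ⟶ G} [IsMonHom l]
    {x y : 𝟏 ⟶ X} (hy : HMNum.IsLimitPt a l x y)
    (hxU : ∀ p, x.left.base p ∈ U) (hyU : ∀ p, y.left.base p ∈ U) :
    ∃ g : 𝟏 ⟶ G, lift g x ≫ a.act = y := by
  let o : Spec (CommRingCat.of k) := IsLocalRing.closedPoint k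
  have hcl := hU k 𝟏 (Iso.refl _) x (by rintro _ ⟨p, rfl⟩; exact hxU p)
  obtain ⟨P, hP, hP0⟩ := exists_locPoint_limit hy
  let Q : VecGrp.pt k (Loc k) ⟶ X ⊗ 𝟏 := lift P (toUnit _)
  let gK : VecGrp.pt k (FF k) ⟶ G ⊗ 𝟏 := lift (gmPt (k := k) (ffU k) ≫ l) (toUnit _)
  have hgK : gK ≫ GIT.psi a x = VecGrp.ptMap locToFF ≫ Q := by
    rw [GIT.psi, comp_lift, comp_lift, hP, comp_toUnit]
    congr 1
    · rw [← Category.assoc, lift_whiskerLeft]
      rfl
    · exact toUnit_unique _ _
  let ζ : Spec (CommRingCat.of (FF k)) := IsLocalRing.closedPoint (FF k)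
  let z : (X ⊗ 𝟏).left := Q.left.base ((VecGrp.ptMap (locEval (k := k))).left.base o)
  let z' : (X ⊗ 𝟏).left := (VecGrp.ptMap locToFF ≫ Q).left.base ζ
  have hz : z = (lift y (𝟙 𝟏)).left.base o := by
    have h1 : VecGrp.ptMap (locEval (k := k)) ≫ Q = toUnit _ ≫ lift y (𝟙 𝟏) := by
      rw [comp_lift, hP0, comp_toUnit, comp_lift, Category.comp_id]
      rfl
    show (VecGrp.ptMap (locEval (k := k)) ≫ Q).left.base o = _
    rw [h1]
    exact congrArg (lift y (𝟙 𝟏)).left.base ((subsingleton_unit (k := k)).elim _ _)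
  have hzW : z ∈ (fst X 𝟏).left ⁻¹ᵁ U := by
    show (fst X 𝟏).left.base z ∈ U
    rw [hz]
    show (lift y (𝟙 𝟏) ≫ fst X 𝟏).left.base o ∈ U
    rw [lift_fst]
    exact hyU o
  have hspec : z' ⤳ z := by
    refine Specializes.map ?_ Q.left.continuous
    refine (PrimeSpectrum.le_iff_specializes _ _).1 ?_
    intro r hr
    change locToFF r ∈ IsLocalRing.maximalIdeal (FF k) at hr
    rw [IsLocalRing.maximalIdeal_eq_bot, Ideal.mem_bot] at hr
    rw [show r = 0 from ff_injective (hr.trans (map_zero _).symm)]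
    exact Ideal.zero_mem _
  have hz'W : z' ∈ (fst X 𝟏).left ⁻¹ᵁ U := hspec.mem_open ((fst X 𝟏).left ⁻¹ᵁ U).isOpen hzW
  have hzr : z ∈ Set.range (GIT.psi a x).left.base := by
    have hsub : (⟨z', hz'W⟩ : ((fst X 𝟏).left ⁻¹ᵁ U : (X ⊗ 𝟏).left.Opens)) ⤳ ⟨z, hzW⟩ :=
      Topology.IsInducing.subtypeVal.specializes_iff.mp hspec
    exact hsub.mem_closed hcl ⟨gK.left.base ζ, by
      show (gK ≫ GIT.psi a x).left.base ζ = z'
      rw [hgK]⟩
  haveI : LocallyOfFiniteType (G ⊗ 𝟏).hom := by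
    rw [← Over.w (fst G 𝟏)]
    haveI : LocallyOfFiniteType (fst G 𝟏).left :=
      MorphismProperty.pullback_fst G.hom (𝟏).hom (inferInstanceAs (LocallyOfFiniteType (𝟙 (Spec (CommRingCat.of k)))))
    exact inferInstanceAs (LocallyOfFiniteType ((fst G 𝟏).left ≫ G.hom))
  haveI : LocallyOfFiniteType (X ⊗ 𝟏).hom := by
    rw [← Over.w (fst X 𝟏)]
    haveI : LocallyOfFiniteType (fst X 𝟏).left :=
      MorphismProperty.pullback_fst X.hom (𝟏).hom (inferInstanceAs (LocallyOfFiniteType (𝟙 (Spec (CommRingCat.of k)))))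
    exact inferInstanceAs (LocallyOfFiniteType ((fst X 𝟏).left ≫ X.hom))
  haveI : JacobsonSpace (G ⊗ 𝟏).left := LocallyOfFiniteType.jacobsonSpace (G ⊗ 𝟏).hom
  have hzc : IsClosed ({z} : Set (X ⊗ 𝟏).left) := by
    rw [hz]
    exact ((pointEquivClosedPoint (X ⊗ 𝟏).hom) ⟨(lift y (𝟙 𝟏)).left, Over.w _⟩).2
  obtain ⟨q, hq, hqc⟩ := nonempty_inter_closedPoints (Z := (GIT.psi a x).left.base ⁻¹' {z}) hzr
    (hzc.preimage (GIT.psi a x).left.continuous).isLocallyClosed
  obtain ⟨g, hg⟩ := exists_pt hqc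
  refine ⟨g ≫ fst G 𝟏, ?_⟩
  have h1 : g ≫ GIT.psi a x = lift y (𝟙 𝟏) := pt_ext (by
    rw [Over.comp_left, Scheme.Hom.comp_apply, ← hz]
    rw [hg]
    exact hq)
  have h2 := congrArg (fun w => w ≫ fst X 𝟏) h1
  simp only [GIT.psi, comp_lift, lift_fst] at h2
  rw [← h2, ← Category.assoc]
  congr 1
  ext1
  · simp
  · simp only [comp_lift, lift_snd, Category.assoc, whiskerLeft_snd]
    rw [← Category.assoc, toUnit_unique (g ≫ snd G 𝟏) (𝟙 _), Category.id_comp]

/-- With a finite stabiliser scheme only finitely many rational points fix the point. -/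
theorem finite_fixing [LocallyOfFiniteType G.hom] [LocallyOfFiniteType X.hom] {x : 𝟏 ⟶ X}
    (h : IsFinite (GLinSh.stabTo a x)) : {g : 𝟏 ⟶ G | lift g x ≫ a.act = x}.Finite := by
  haveI := h
  haveI : Subsingleton ((𝟙_ (Over (Spec (CommRingCat.of k)))).left : Scheme.{u}) := subsingleton_unit
  let o : Spec (CommRingCat.of k) := IsLocalRing.closedPoint k
  have hfin : (Set.univ : Set (GLinSh.stab a x)).Finite := by
    have h1 := (GLinSh.stabTo a x).finite_preimage (Set.finite_singleton o)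
    refine h1.subset fun z _ => ?_
    exact Subsingleton.elim _ _
  refine Set.Finite.of_finite_image (f := fun g : 𝟏 ⟶ G => g.left.base o)
    ((hfin.image (fun z => (fst G 𝟏).left.base ((pullback.fst (GIT.psi a x).left (lift x (𝟙 𝟏)).left).base z))).subset ?_)
    fun g _ g' _ hgg => pt_ext hgg
  rintro _ ⟨g, hg, rfl⟩
  have hs : (lift g (𝟙 𝟏)).left ≫ (GIT.psi a x).left = 𝟙 _ ≫ (lift x (𝟙 𝟏)).left := by
    rw [Category.id_comp, ← Over.comp_left]
    congr 1
    rw [GIT.psi, comp_lift, lift_snd, ← Category.assoc, lift_whiskerLeft, Category.id_comp]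
    exact congrArg (lift · _) hg
  refine ⟨(pullback.lift _ _ hs).base o, trivial, ?_⟩
  show (fst G 𝟏).left.base ((pullback.lift _ _ hs ≫ pullback.fst _ _).base o) = _
  rw [pullback.lift_fst]
  show (lift g (𝟙 𝟏) ≫ fst G 𝟏).left.base o = _
  rw [lift_fst]

/-- A subgroup whose rational points have a finite image is trivial. -/
theorem eq_one_of_finite_range [IsSeparated G.hom] [LocallyOfFiniteType G.hom]
    (l : Red.Gm (Spec (CommRingCat.of k)) ⟶ G) [IsMonHom l]
    (h : (Set.range fun s : 𝟏 ⟶ Red.Gm (Spec (CommRingCat.of k)) => s ≫ l).Finite) : l = 1 := by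
  obtain ⟨_, hsm, -⟩ := Obs28.Unip.exists_coord k
  haveI := hsm
  haveI : IsReduced (Red.Gm (Spec (CommRingCat.of k))).left := GrpSchLib.isReduced_of_smooth_field (Red.Gm (Spec (CommRingCat.of k))).hom
  let pu : kˣ → (𝟏 ⟶ Red.Gm (Spec (CommRingCat.of k))) := fun u =>
    GmPts.ptOfUnit (Units.map (Scheme.ΓSpecIso (CommRingCat.of k)).inv.hom.toMonoidHom u)
  have hpu : ∀ u, GmPts.unitOfPt (pu u) = Units.map (Scheme.ΓSpecIso (CommRingCat.of k)).inv.hom.toMonoidHom u :=
    fun u => GmPts.unitOfPt_ptOfUnit _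
  have hinj : Function.Injective (fun s : 𝟏 ⟶ Red.Gm (Spec (CommRingCat.of k)) => GmPts.unitOfPt s) :=
    (GmPts.equiv (S := Spec (CommRingCat.of k)) 𝟏).injective
  let ρ : kˣ →* (𝟏 ⟶ G) :=
    { toFun := fun u => pu u ≫ l
      map_one' := by
        rw [show pu 1 = 1 from hinj (by simp only [hpu, map_one, GmPts.unitOfPt_one]), MonObj.one_comp]
      map_mul' := fun u v => by
        rw [show pu (u * v) = pu u * pu v from hinj (by simp only [hpu, map_mul, GmPts.unitOfPt_mul]),
          MonObj.mul_comp] }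
  haveI : Finite ρ.range := (show (ρ.range : Set (𝟏 ⟶ G)).Finite by
    rw [MonoidHom.coe_range]
    exact h.subset (by rintro _ ⟨u, rfl⟩; exact ⟨pu u, rfl⟩)).to_subtype
  have hpt : ∀ s : 𝟏 ⟶ Red.Gm (Spec (CommRingCat.of k)), s ≫ l = 1 := by
    intro s
    let u : kˣ := Units.map (Scheme.ΓSpecIso (CommRingCat.of k)).hom.hom.toMonoidHom (GmPts.unitOfPt s)
    have hs : pu u = s := hinj (by
      simp only [hpu]
      refine Units.ext ?_
      exact Iso.hom_inv_id_apply (Scheme.ΓSpecIso (CommRingCat.of k)) _)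
    have hc : 0 < Nat.card ρ.range := Nat.card_pos
    obtain ⟨r, hr⟩ := IsAlgClosed.exists_pow_nat_eq (u : k) hc
    have hr0 : r ≠ 0 := fun h0 => u.ne_zero (by rw [← hr, h0, zero_pow hc.ne'])
    rw [← hs]
    show ρ u = 1
    rw [show u = Units.mk0 r hr0 ^ Nat.card ρ.range from Units.ext hr.symm, map_pow]
    exact congrArg Subtype.val (pow_card_eq_one' (x := (⟨ρ (Units.mk0 r hr0), Units.mk0 r hr0, rfl⟩ : ρ.range)))
  haveI : LocallyOfFiniteType (l.left ≫ G.hom) := by rw [Over.w l]; infer_instance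
  refine Over.OverMorphism.ext (ext_of_apply_eq G.hom Set.univ isClosed_univ.isLocallyClosed dense_univ (fun z _ hz => ?_)
    ((Over.w l).trans (Over.w _).symm))
  obtain ⟨s, rfl⟩ := exists_pt hz
  show (s ≫ l).left.base _ = (s ≫ (1 : Red.Gm _ ⟶ G)).left.base _
  rw [hpt, MonObj.comp_one]

variable [CharZero k] [IsProper X.hom]

/-- The numerical criterion: properly stable iff the numerical function is positive on non-trivial subgroups. -/
theorem isProperlyStablePt_iff (B : GLinSh.LinBun G a) (hG : Red.IsReductive G) (hB : HMNum.AmpleCover B)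
    (x : 𝟏 ⟶ X) (p : (𝟙_ (Over (Spec (CommRingCat.of k)))).left) :
    B.IsProperlyStablePt (x.left.base p) ↔
      ∀ (l : Red.Gm (Spec (CommRingCat.of k)) ⟶ G) [IsMonHom l], l ≠ 1 → ∀ m : ℤ, HMNum.IsMu B l x m → 0 < m := by
  haveI : Subsingleton ((𝟙_ (Over (Spec (CommRingCat.of k)))).left : Scheme.{u}) := subsingleton_unit
  haveI := hG.1
  haveI := hG.2.1
  haveI : IsAffine G.left := isAffine_of_isAffineHom G.hom
  haveI : IsReduced G.left := GrpSchLib.isReduced_of_smooth_field G.hom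
  obtain ⟨v₀, hv₀, hg₀⟩ := exists_gd B (cst x k)
  constructor
  · rintro ⟨⟨n, f, hn, hinv, hx, U, hU, -, hcl⟩, hstab⟩ l _ hl m ⟨y, hy, hw⟩
    rw [← base_eq hv₀ p, HMSec.mem_nonvanishing_iff B hinv.1 v₀ hg₀] at hx
    have hle := weight_nonpos B hB hy hw hv₀ hg₀ hn hinv hx
    by_contra hneg
    have hm0 : -m = 0 := by omega
    rw [hm0] at hw
    have hxU : ∀ q, x.left.base q ∈ U := fun q => by
      show _ ∈ (U : Set X.left)
      rw [hU, ← base_eq hv₀ q, HMSec.mem_nonvanishing_iff B hinv.1 v₀ hg₀]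
      exact hx
    have hyU : ∀ q, y.left.base q ∈ U := fun q => by
      show _ ∈ (U : Set X.left)
      rw [hU]
      exact mem_of_weight_zero B hB hy hw hv₀ hg₀ hinv hx q
    obtain ⟨g, hg⟩ := exists_translate_of_closedOrbits hcl hy hxU hyU
    have hfin := finite_fixing (hstab k 𝟏 (Iso.refl _) x (Set.ext fun z => ⟨by
      rintro ⟨q, rfl⟩; exact congrArg _ (Subsingleton.elim _ _), fun h => ⟨p, h.symm⟩⟩))
    refine hl (eq_one_of_finite_range l ((hfin.image fun h => g * h * g⁻¹).subset ?_))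
    rintro _ ⟨s, rfl⟩
    refine ⟨g⁻¹ * (s ≫ l) * g, ?_, ?_⟩
    · show lift (g⁻¹ * (s ≫ l) * g) x ≫ a.act = x
      have hfix := HMTransLib.isFixedBy_of_isLimitPt hy 𝟏 (𝟙 _) s
      rw [Category.id_comp] at hfix
      rw [← GrpSchLib.act_mul, hg, ← GrpSchLib.act_mul, hfix, ← hg, GrpSchLib.act_mul, inv_mul_cancel,
        GrpSchLib.act_one]
    · simp [_root_.mul_assoc]
  · intro H
    obtain ⟨A, _, _, hft, hred, hlr, ⟨e⟩⟩ := exists_model hG
    haveI := hft
    haveI := hred
    obtain ⟨D⟩ := exists_data B hB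
    letI := linComod (repMatrix e D.M) (D.isComodMatrix e)
    haveI := isCoactAlg_linComod (repMatrix e D.M) (D.isComodMatrix e)
    have hlin := isLinear_linComod (repMatrix e D.M) (D.isComodMatrix e)
    let v : Fin D.n → k := fun j => pullFn v₀ (D.f j)
    have hv : v ≠ 0 := fun h0 => by
      obtain ⟨i, hi⟩ := D.exists_ne_zero hg₀
      exact hi (congrFun h0 i)
    have hss : GLin.IsSemistableVec k A v := (HMGit.Small.isSemistableVec_iff hlr hlin v hv).mpr fun lam m hm =>
      isMu_nonneg B e D hB (fun l _ => isMu_nonneg_of_pos B hB H l) hv₀ hg₀ lam m hm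
    have hs : GLin.IsStableVec k A v := (HMGit.Small.isStableVec_iff hlr hlin v hv).mpr fun lam hlam m hm =>
      isMu_pos B e D hB H hv₀ hg₀ lam hlam m hm
    obtain ⟨F, d, hF, hd, hhom, hne, hst⟩ := exists_stable_form hlr hlin hs hss
    obtain ⟨hinv, hn, U, hU, hUa⟩ := D.exists_invSection e hd hhom hF
    have hmem : x.left.base p ∈ GLinSh.nonvanishing B.π (MvPolynomial.aeval D.f F) := by
      rw [← base_eq hv₀ p, HMSec.mem_nonvanishing_iff B hinv.1 v₀ hg₀, ← AlgHom.comp_apply,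
        show (pullFn v₀).comp (MvPolynomial.aeval D.f) = MvPolynomial.aeval v from MvPolynomial.comp_aeval _ _,
        MvPolynomial.aeval_eq_eval]
      exact hne
    refine ⟨⟨_, _, hn, hinv, hmem, U, hU, hUa, fun Ω _ _ T j f hf =>
      closed_of_isFinite (isFinite_psi_of_stable B e D hlr hd hhom hst hinv.2 hU hUa T j f hf)⟩,
      fun Ω _ _ T j f hf => ?_⟩
    have hf' : Set.range f.left.base ⊆ (U : Set X.left) := by
      rw [hf, hU]
      exact Set.singleton_subset_iff.mpr hmem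
    exact isFinite_stabTo_of_isFinite (isFinite_psi_of_stable B e D hlr hd hhom hst hinv.2 hU hUa T j f hf') hf'

end Groth.Agent.HMAmple
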