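import Groth.Agent.HMAmple.Weight
import Groth.Agent.Obs28.Rep

/-!
Finite-dimensional spaces of functions stable under translations.
-/

set_option autoImplicit false
set_option linter.unusedSectionVars false
set_option linter.style.haveILetI false
set_option backward.isDefEq.respectTransparency false
set_option backward.isDefEq.respectTransparency.types false

universe u

open CategoryTheory CategoryTheory.Limits MonoidalCategory CartesianMonoidalCategory MonObj GrpObj AlgebraicGeometry
open Opposite TopologicalSpace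
open Groth.Agent.GrpSchLib.Kunneth (Fn ev pullFn)

namespace Groth.Agent.HMAmple

variable {k : Type u} [Field k] {G V : Over (Spec (CommRingCat.of k))}

/-- The value of a function at a rational point. -/
noncomputable def val (g : 𝟙_ (Over (Spec (CommRingCat.of k))) ⟶ G) : Fn G →ₐ[k] k := pullFn (HMSec.cst g k)

/-- A rational point with values in the standard test object as a rational point. -/
noncomputable def unitPtInv : 𝟙_ (Over (Spec (CommRingCat.of k))) ⟶ VecGrp.pt k k :=
  Over.homMk (𝟙 (Spec (CommRingCat.of k))) (by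
    show 𝟙 (Spec (CommRingCat.of k)) ≫ Spec.map (CommRingCat.ofHom (algebraMap k k)) = 𝟙 (Spec (CommRingCat.of k))
    rw [show CommRingCat.ofHom (algebraMap k k) = 𝟙 (CommRingCat.of k) from rfl, Spec.map_id]
    simp)

theorem cst_unitPtInv (p : VecGrp.pt k k ⟶ G) : HMSec.cst (unitPtInv ≫ p) k = p := by
  rw [HMSec.cst, ← Category.assoc]
  rw [show toUnit (VecGrp.pt k k) ≫ unitPtInv = 𝟙 (VecGrp.pt k k) from Over.OverMorphism.ext (by
    refine (Over.w (toUnit (VecGrp.pt k k))).trans ?_
    show Spec.map (CommRingCat.ofHom (algebraMap k k)) = 𝟙 _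
    rw [show CommRingCat.ofHom (algebraMap k k) = 𝟙 (CommRingCat.of k) from rfl, Spec.map_id]
    )]
  exact Category.id_comp _

theorem eq_zero_of_forall_val [IsAlgClosed k] [IsReduced G.left] [LocallyOfFiniteType G.hom] (α : Fn G)
    (h : ∀ g : 𝟙_ (Over (Spec (CommRingCat.of k))) ⟶ G, val g α = 0) : α = 0 :=
  Obs28.eq_zero_of_val α fun p => by
    have := h (unitPtInv ≫ p)
    rwa [val, cst_unitPtInv] at this

theorem ev_const (g : 𝟙_ (Over (Spec (CommRingCat.of k))) ⟶ G) (T : Over (Spec (CommRingCat.of k))) (α : Fn G) :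
    ev (toUnit T ≫ g) α = algebraMap k (Fn T) (val g α) := by
  obtain ⟨c, hc⟩ : ∃ c, algebraMap k (Fn (𝟙_ (Over (Spec (CommRingCat.of k))))) c = ev g α := by
    refine ⟨(Scheme.ΓSpecIso (CommRingCat.of k)).hom (ev g α), ?_⟩
    show Scheme.Hom.appTop (𝟙 (Spec (CommRingCat.of k)))
      ((Scheme.ΓSpecIso (CommRingCat.of k)).inv ((Scheme.ΓSpecIso (CommRingCat.of k)).hom (ev g α))) = _
    rw [Scheme.Hom.id_appTop]
    exact Iso.hom_inv_id_apply (Scheme.ΓSpecIso (CommRingCat.of k)) _
  have hv : val g α = c := by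
    rw [val, GrpSchLib.Kunneth.pullFn_apply, HMSec.cst, ← GrpSchLib.Kunneth.ev_ev, ← hc, AlgHom.commutes]
    exact (AlgHom.commutes (pullFn (toUnit (VecGrp.pt k k))) c)
  rw [← GrpSchLib.Kunneth.ev_ev, ← hc, AlgHom.commutes, hv]

variable [QuasiCompact G.hom] [IsSeparated G.hom] [QuasiCompact V.hom] [IsSeparated V.hom]

theorem ev_slice (g : 𝟙_ (Over (Spec (CommRingCat.of k))) ⟶ G) (α : Fn G) (w : Fn V) :
    ev (lift (toUnit V ≫ g) (𝟙 V)) (ev (fst G V) α * ev (snd G V) w) = val g α • w := by
  rw [map_mul, GrpSchLib.Kunneth.ev_ev, GrpSchLib.Kunneth.ev_ev, lift_fst, lift_snd, ev_const,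
    GrpSchLib.Kunneth.ev_id, Algebra.smul_def]

/-- Functions on a product with a reduced group are detected on the translates by rational points. -/
theorem prod_ext [IsAlgClosed k] [IsReduced G.left] [LocallyOfFiniteType G.hom] {z z' : Fn (G ⊗ V)}
    (h : ∀ g : 𝟙_ (Over (Spec (CommRingCat.of k))) ⟶ G,
      ev (lift (toUnit V ≫ g) (𝟙 V)) z = ev (lift (toUnit V ≫ g) (𝟙 V)) z') : z = z' := by
  let b := Module.Basis.ofVectorSpace k (Fn V)
  obtain ⟨s, c, hc⟩ := GrpSchLib.Kunneth.exists_expand (X := G) b (z - z')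
  have hc0 : ∀ l ∈ s, c l = 0 := by
    intro l hl
    refine eq_zero_of_forall_val _ fun g => ?_
    have h1 := congrArg (ev (lift (toUnit V ≫ g) (𝟙 V))) hc
    rw [map_sub, h g, sub_self, map_sum, Finset.sum_congr rfl fun l _ => ev_slice g (c l) (b l)] at h1
    exact linearIndependent_iff'.mp b.linearIndependent s (fun l => val g (c l)) h1.symm l hl
  refine sub_eq_zero.mp (hc.trans (Finset.sum_eq_zero fun l hl => ?_))
  rw [hc0 l hl, map_zero, zero_mul]

variable [GrpObj G] (Φ : AlgGrp.Action G V)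

/-- The translation by a rational point on functions. -/
noncomputable def trA (g : 𝟙_ (Over (Spec (CommRingCat.of k))) ⟶ G) : Fn V →ₐ[k] Fn V :=
  ev (lift (toUnit V ≫ g) (𝟙 V) ≫ Φ.act)

theorem trA_one (f : Fn V) : trA Φ 1 f = f := by
  rw [trA, MonObj.comp_one, GrpSchLib.act_one, GrpSchLib.Kunneth.ev_id]

theorem trA_mul (g h : 𝟙_ (Over (Spec (CommRingCat.of k))) ⟶ G) (f : Fn V) :
    trA Φ (g * h) f = trA Φ h (trA Φ g f) := by
  have hgh : (lift (toUnit V ≫ h) (𝟙 V) ≫ Φ.act) ≫ lift (toUnit V ≫ g) (𝟙 V) ≫ Φ.act =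
      lift (toUnit V ≫ (g * h)) (𝟙 V) ≫ Φ.act := by
    rw [← Category.assoc (lift (toUnit V ≫ h) (𝟙 V) ≫ Φ.act), comp_lift, Category.comp_id, ← Category.assoc
      (lift (toUnit V ≫ h) (𝟙 V) ≫ Φ.act) (toUnit V), comp_toUnit, GrpSchLib.act_mul, MonObj.comp_mul]
  rw [trA, trA, trA, GrpSchLib.Kunneth.ev_ev, hgh]

theorem exists_finite_translates (f : Fn V) : ∃ W : Submodule k (Fn V), Module.Finite k W ∧
    ∀ g, trA Φ g f ∈ W := by
  classical
  let b := Module.Basis.ofVectorSpace k (Fn V)
  obtain ⟨s, α, hα⟩ := GrpSchLib.Kunneth.exists_expand (X := G) b (ev Φ.act f)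
  refine ⟨Submodule.span k (s.image b : Finset (Fn V)), Module.Finite.span_of_finite k (Finset.finite_toSet _),
    fun g => ?_⟩
  rw [trA, ← GrpSchLib.Kunneth.ev_ev, hα, map_sum]
  refine Submodule.sum_mem _ fun l hl => ?_
  rw [ev_slice]
  exact Submodule.smul_mem _ _ (Submodule.subset_span (Finset.mem_coe.mpr (Finset.mem_image_of_mem b hl)))

/-- A stable space spanned by the translates of finitely many functions, with the functions of its matrix. -/
theorem exists_stable [IsAlgClosed k] [IsReduced G.left] [LocallyOfFiniteType G.hom] (S : Finset (Fn V))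
    (P : Fn V → Prop) (h0 : P 0) (hadd : ∀ f f', P f → P f' → P (f + f')) (hsmul : ∀ (c : k) f, P f → P (c • f))
    (hP : ∀ f ∈ S, ∀ g, P (trA Φ g f)) :
    ∃ (n : ℕ) (f : Fin n → Fn V) (M : Fin n → Fin n → Fn G), LinearIndependent k f ∧
      (∀ f₀ ∈ S, f₀ ∈ Submodule.span k (Set.range f)) ∧ (∀ i, P (f i)) ∧
      ∀ g i, trA Φ g (f i) = ∑ j, val g (M i j) • f j := by
  classical
  choose W₀ hW₀ hmem using fun f => exists_finite_translates Φ f
  let W := Submodule.span k {w | ∃ f ∈ S, ∃ g, trA Φ g f = w}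
  haveI := hW₀
  haveI : Module.Finite k (⨆ f : S, W₀ f.1 : Submodule k (Fn V)) := Submodule.finite_iSup _
  have hle : W ≤ ⨆ f : S, W₀ f.1 := Submodule.span_le.mpr (by
    rintro _ ⟨f, hf, g, rfl⟩
    exact le_iSup (fun f : S => W₀ f.1) ⟨f, hf⟩ (hmem f g))
  haveI : Module.Finite k W := Submodule.finiteDimensional_of_le hle
  let bW := Module.finBasis k W
  have hst : ∀ g w, w ∈ W → trA Φ g w ∈ W := by
    intro g w hw
    induction hw using Submodule.span_induction with
    | mem x hx =>
      obtain ⟨f, hf, h, rfl⟩ := hx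
      exact Submodule.subset_span ⟨f, hf, h * g, trA_mul Φ h g f⟩
    | zero => rw [map_zero]; exact W.zero_mem
    | add x y _ _ hx hy => rw [map_add]; exact W.add_mem hx hy
    | smul c x _ hx => rw [map_smul]; exact W.smul_mem c hx
  have hPW : ∀ w ∈ W, P w := by
    intro w hw
    induction hw using Submodule.span_induction with
    | mem x hx =>
      obtain ⟨f, hf, g, rfl⟩ := hx
      exact hP f hf g
    | zero => exact h0
    | add x y _ _ hx hy => exact hadd x y hx hy
    | smul c x _ hx => exact hsmul c x hx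
  choose π hπ using fun j => LinearMap.exists_extend (bW.coord j)
  let b := Module.Basis.ofVectorSpace k (Fn V)
  choose s α hα using fun i => GrpSchLib.Kunneth.exists_expand (X := G) b (ev Φ.act (bW i : Fn V))
  refine ⟨Module.finrank k W, fun i => (bW i : Fn V), fun i j => ∑ l ∈ s i, π j (b l) • α i l,
    bW.linearIndependent.map' W.subtype W.ker_subtype, fun f₀ hf₀ => ?_, fun i => hPW _ (bW i).2, fun g i => ?_⟩
  · have hf : f₀ ∈ W := Submodule.subset_span ⟨f₀, hf₀, 1, trA_one Φ f₀⟩
    have e : Submodule.span k (Set.range fun i => (bW i : Fn V)) = W := by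
      rw [show (fun i => (bW i : Fn V)) = W.subtype ∘ bW from rfl, Set.range_comp, Submodule.span_image, bW.span_eq,
        Submodule.map_subtype_top]
    rw [e]; exact hf
  · have h1 : trA Φ g (bW i : Fn V) = ∑ l ∈ s i, val g (α i l) • b l := by
      rw [trA, ← GrpSchLib.Kunneth.ev_ev, hα, map_sum]
      exact Finset.sum_congr rfl fun l _ => ev_slice g (α i l) (b l)
    let w : W := ⟨trA Φ g (bW i : Fn V), hst g _ (bW i).2⟩
    have h2 : ∀ j, bW.repr w j = val g (∑ l ∈ s i, π j (b l) • α i l) := by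
      intro j
      have : π j (W.subtype w) = bW.coord j w := LinearMap.congr_fun (hπ j) w
      rw [← Module.Basis.coord_apply, ← this]
      show π j (trA Φ g (bW i : Fn V)) = _
      rw [h1, map_sum, map_sum]
      exact Finset.sum_congr rfl fun l _ => by rw [map_smul, map_smul, smul_eq_mul, smul_eq_mul, mul_comm]
    calc trA Φ g (bW i : Fn V) = ((∑ j, bW.repr w j • bW j : W) : Fn V) := by rw [bW.sum_repr]
      _ = _ := by
        rw [Submodule.coe_sum]
        exact Finset.sum_congr rfl fun j _ => by rw [Submodule.coe_smul, h2]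

end Groth.Agent.HMAmple
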