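import Groth.Agent.HMAmple.Criterion
import Groth.Agent.ComodLib.Antipode
import Mathlib.AlgebraicGeometry.AlgClosed.Basic

/-!
Trivial one-parameter subgroups, and the strict inequality on the vector of values.
-/

set_option autoImplicit false
set_option linter.unusedSectionVars false
set_option linter.style.haveILetI false
set_option backward.isDefEq.respectTransparency false
set_option backward.isDefEq.respectTransparency.types false

universe u

open CategoryTheory CategoryTheory.Limits MonoidalCategory CartesianMonoidalCategory MonObj GrpObj AlgebraicGeometry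
open Opposite TopologicalSpace WithConv LaurentPolynomial
open Groth.Agent.GrpSchLib.Kunneth (Fn ev pullFn)
open Groth.Agent.GrpSchLib.AffineHopf (sp spMap)
open scoped Groth.Agent.HMGit

namespace Groth.Agent.HMAmple

open HMSec

variable {k : Type u} [Field k] [IsAlgClosed k] {G X : Over (Spec (CommRingCat.of k))} [GrpObj G]
variable {a : AlgGrp.Action G X} (B : GLinSh.LinBun G a)

/-- The weight at a limit along the trivial subgroup is zero. -/
theorem weight_eq_zero_of_eq_one [IsProper X.hom] (hB : HMNum.AmpleCover B)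
    {l : Red.Gm (Spec (CommRingCat.of k)) ⟶ G} [IsMonHom l] (hl : l = 1)
    {y : 𝟙_ (Over (Spec (CommRingCat.of k))) ⟶ X} {w : ℤ} (hw : HMNum.HasFibreWeight B l y w) : w = 0 := by
  obtain ⟨_, hcov⟩ := hB
  obtain ⟨v, hv, hg⟩ := exists_gd B (cst y k)
  obtain ⟨n, f, hn, hf, hmem, -⟩ := hcov ((v ≫ B.π).left.base (IsLocalRing.closedPoint k))
  have hf0 := (HMSec.mem_nonvanishing_iff B hf v hg).mp hmem
  let e := Algebra.ofId k (FF k)
  have hv' : (VecGrp.ptMap e ≫ v) ≫ B.π = cst y (FF k) := by rw [Category.assoc, hv, ptMap_cst]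
  have hrel := isHom_of_hasWeight B hf (FF k) _ _ _ (rel_of_hasFibreWeight B hw (gmPt (k := k) (ffU k)) hv')
  rw [hl, MonObj.comp_one, GrpSchLib.act_one, GrpSchLib.Kunneth.pullFn_ptMap, gmVal_gmPt] at hrel
  have hne : e (pullFn v f) ≠ 0 := fun h => hf0 ((algebraMap k (FF k)).injective (h.trans (map_zero _).symm))
  rw [← Units.val_pow_eq_pow_val] at hrel
  have h1 : (ffU k ^ w) ^ n = (ffU k) ^ (0 : ℤ) := by
    refine Units.ext (mul_right_cancel₀ hne (hrel.symm.trans ?_))
    simp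
  rw [← zpow_natCast, ← _root_.zpow_mul] at h1
  rcases Int.mul_eq_zero.mp (pow_ffX_injective h1) with h | h
  · exact h
  · omega

/-- The condition on the non-trivial subgroups gives the condition on all. -/
theorem isMu_nonneg_of_pos [IsProper X.hom] (hB : HMNum.AmpleCover B)
    {x : 𝟙_ (Over (Spec (CommRingCat.of k))) ⟶ X}
    (H : ∀ (l : Red.Gm (Spec (CommRingCat.of k)) ⟶ G) [IsMonHom l], l ≠ 1 → ∀ m : ℤ, HMNum.IsMu B l x m → 0 < m)
    (l : Red.Gm (Spec (CommRingCat.of k)) ⟶ G) [IsMonHom l] (m : ℤ) (hm : HMNum.IsMu B l x m) : 0 ≤ m := by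
  by_cases hl : l = 1
  · obtain ⟨y, -, hw⟩ := hm
    have := weight_eq_zero_of_eq_one B hB hl hw
    omega
  · exact (H l hl m hm).le

section Model

variable [QuasiCompact G.hom] [IsSeparated G.hom] [IsReduced G.left] [LocallyOfFiniteType G.hom]
  {A : Type u} [CommRing A] [HopfAlgebra k A] [Algebra.FiniteType k A] [_root_.IsReduced A]
  (e : Grp.mk (sp k A) ≅ Grp.mk G)

theorem lamGm_ne_one {lam : A →ₐc[k] k[T;T⁻¹]} (hlam : ¬ SGA3t2b.IsTrivialBialgHom lam) : lamGm e lam ≠ 1 := by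
  intro h
  refine hlam fun α => ?_
  obtain ⟨β, rfl⟩ : ∃ β : Fn G, pullFn (univA e) β = α := by
    have h' : univA e ≫ e.inv.hom.hom = 𝟙 _ := congrArg (fun k => k.hom.hom) e.hom_inv_id
    refine ⟨ev e.inv.hom.hom ((Scheme.ΓSpecIso (CommRingCat.of A)).inv α), ?_⟩
    rw [GrpSchLib.Kunneth.pullFn_apply, GrpSchLib.Kunneth.ev_ev, h']
    exact Iso.inv_hom_id_apply (Scheme.ΓSpecIso (CommRingCat.of A)) α
  let t : (k[T;T⁻¹])ˣ := (LaurentPolynomial.isUnit_T (R := k) 1).unit
  have h1 := pullFn_comp_lamGm e lam (gmPt (k := k) t⁻¹) β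
  rw [h, MonObj.comp_one, gmVal_gmPt, _root_.inv_inv] at h1
  have h2 : pullFn (1 : VecGrp.pt k k[T;T⁻¹] ⟶ G) β =
      algebraMap k k[T;T⁻¹] (Coalgebra.counit (R := k) (pullFn (univA e) β)) := by
    rw [← map_one (ptHomR e k[T;T⁻¹]), pullFn_ptHomR]
    rfl
  rw [h2] at h1
  have h3 : evC (k := k) t = AlgHom.id k k[T;T⁻¹] := AddMonoidAlgebra.algHom_ext (fun n => by
    show evC t (LaurentPolynomial.T n) = LaurentPolynomial.T n
    rw [evC_T]
    induction n using Int.induction_on with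
    | zero => simp
    | succ j hj => rw [_root_.zpow_add_one, Units.val_mul, hj, IsUnit.unit_spec, ← LaurentPolynomial.T_add]
    | pred j hj =>
      rw [_root_.zpow_sub_one, Units.val_mul, hj]
      refine (Units.mul_inv_eq_iff_eq_mul t).mpr ?_
      rw [IsUnit.unit_spec, ← LaurentPolynomial.T_add, sub_add_cancel]) (Subsingleton.elim _ _)
  rw [h3] at h1
  exact h1.symm

variable [IsProper X.hom] (D : Data B)

/-- The strict numerical condition on the base gives it on the vector of values of the family. -/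
theorem isMu_pos (hB : HMNum.AmpleCover B) {x : 𝟙_ (Over (Spec (CommRingCat.of k))) ⟶ X}
    (H : ∀ (l : Red.Gm (Spec (CommRingCat.of k)) ⟶ G) [IsMonHom l], l ≠ 1 → ∀ m : ℤ, HMNum.IsMu B l x m → 0 < m)
    {v₀ : VecGrp.pt k k ⟶ B.V} (hv₀ : v₀ ≫ B.π = cst x k) (hg₀ : Gd B v₀) (lam : A →ₐc[k] k[T;T⁻¹])
    (hlam : ¬ SGA3t2b.IsTrivialBialgHom lam) (m : ℤ)
    (hm : @GLin.IsMu k _ A _ _ (Fin D.n) (linComod (repMatrix e D.M) (D.isComodMatrix e))
      (isCoactAlg_linComod _ _) lam (fun j => pullFn v₀ (D.f j)) m) : 0 < m := by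
  letI := linComod (repMatrix e D.M) (D.isComodMatrix e)
  haveI := isCoactAlg_linComod (repMatrix e D.M) (D.isComodMatrix e)
  haveI := isMonHom_lamGm e lam
  obtain ⟨y, hy⟩ := exists_isLimitPt (a := a) (l := lamGm e lam) x
  obtain ⟨w, hw⟩ := exists_hasFibreWeight B (l := lamGm e lam) (HMTransLib.isFixedBy_of_isLimitPt hy)
  have hw0 : w < 0 := by
    have := H (lamGm e lam) (lamGm_ne_one e hlam) (-w) ⟨y, hy, (neg_neg w).symm ▸ hw⟩
    omega
  obtain ⟨N, vR, s, c, hN, hgR, -, hs, hpow⟩ := exists_scale B hB hy hw hv₀ hg₀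
  obtain ⟨i, hi⟩ := D.exists_ne_zero (hgR.map B locEval)
  rw [GrpSchLib.Kunneth.pullFn_ptMap] at hi
  have hu : IsUnit (pullFn vR (D.f i)) := isUnit_of_locEval hi
  by_contra hneg
  obtain ⟨h1, -⟩ := (ComodLib.isMu_iff lam _ m).mp hm
  obtain ⟨z, hz⟩ := exists_evC_eq_locX_mul
    (L := LaurentPolynomial.T 1 * ComodLib.lamCoord k A lam (fun j => pullFn v₀ (D.f j)) i) fun n hn => by
      rw [ComodLib.coeff_T_mul]
      exact h1 i _ (by omega)
  rw [map_mul, evC_T, _root_.zpow_one, show ((ffU k : (FF k)ˣ) : FF k) = locToFF (locX k) from rfl, map_mul] at hz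
  have hX0 : locToFF (locX k) ≠ 0 := (ffU k).ne_zero
  have h2 := isHom_of_hasWeight B (D.weight i) (FF k) _ _ _ hs
  rw [pullFn_scale B e D lam v₀ i, mul_left_cancel₀ hX0 hz, GrpSchLib.Kunneth.pullFn_ptMap] at h2
  have h3 := congrArg (fun r => r ^ N) h2
  simp only [mul_pow, ← pow_mul] at h3
  rw [mul_comm D.deg N, pow_mul s, hpow, mul_pow] at h3
  obtain ⟨q, hq, hq0⟩ : ∃ q : ℕ, (N : ℤ) * w * D.deg = -(q : ℤ) ∧ q ≠ 0 := by
    refine ⟨(-((N : ℤ) * w * D.deg)).toNat, ?_⟩
    have h0 : (N : ℤ) * w * D.deg < 0 :=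
      mul_neg_of_neg_of_pos (mul_neg_of_pos_of_neg (by exact_mod_cast hN) hw0) (by exact_mod_cast D.deg_pos)
    omega
  rw [← Units.val_pow_eq_pow_val, ← zpow_natCast (ffU k ^ ((N : ℤ) * w)), ← _root_.zpow_mul, hq] at h3
  have h4 := congrArg (fun r => ((ffU k ^ (q : ℤ) : (FF k)ˣ) : FF k) * r) h3
  simp only [← _root_.mul_assoc, ← Units.val_mul, ← _root_.zpow_add, add_neg_cancel, _root_.zpow_zero, Units.val_one,
    _root_.one_mul] at h4
  rw [zpow_natCast, Units.val_pow_eq_pow_val, show ((ffU k : (FF k)ˣ) : FF k) = locToFF (locX k) from rfl] at h4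
  replace h4 : locToFF (locX k ^ q * z ^ N) = locToFF ((c : Loc k) ^ D.deg * pullFn vR (D.f i) ^ N) := by
    simpa only [map_mul, map_pow, mul_pow, _root_.mul_assoc] using h4
  have h5 : IsUnit (locX k ^ q * z ^ N) := ff_injective h4 ▸ (c.isUnit.pow _).mul (hu.pow N)
  exact not_isUnit_locX ((isUnit_pow_iff hq0).mp (isUnit_of_mul_isUnit_left h5))

end Model

end Groth.Agent.HMAmple
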