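import Groth.Agent.HMSec.Fibre
import Groth.Agent.HMAmple.Ratio

/-!
Weight functions tested on vectors with values in local algebras; translates of weight functions.
-/

set_option autoImplicit false
set_option linter.unusedSectionVars false
set_option linter.style.haveILetI false
set_option backward.isDefEq.respectTransparency false
set_option backward.isDefEq.respectTransparency.types false

universe u

open CategoryTheory CategoryTheory.Limits MonoidalCategory CartesianMonoidalCategory MonObj GrpObj AlgebraicGeometry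
open Opposite TopologicalSpace
open Groth.Agent.GrpSchLib.Kunneth (Fn ev pullFn)

namespace Groth.Agent.HMAmple

open HMSec

variable {k : Type u} [Field k] {G X : Over (Spec (CommRingCat.of k))} [GrpObj G]
variable {a : AlgGrp.Action G X} (B : GLinSh.LinBun G a)

/-- Homogeneity of degree `n` on the fibres, tested at vectors with values in local algebras. -/
def IsHomL (n : ℕ) (f : Fn B.V) : Prop :=
  ∀ (R : Type u) [CommRing R] [IsLocalRing R] [Algebra k R] (s : R) (v v' : VecGrp.pt k R ⟶ B.V), Rel B s v v' →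
    pullFn v' f = s ^ n * pullFn v f

theorem isHomL_of_hasWeight {n : ℕ} {f : Fn B.V} (hf : GLinSh.HasWeight B.atlas.chart n f) : IsHomL B n f := by
  intro R _ _ _ s v v' h
  obtain ⟨U, y, hy, hU⟩ := exists_chart B (v ≫ B.π)
  obtain ⟨c, -, hc⟩ := pullFn_weight B hf hy
  have h1 : ⊤ ≤ v.left ⁻¹ᵁ (B.π.left ⁻¹ᵁ U) := hU
  have h2 := top_le_of_base B h.base h1
  rw [hc R v h1, hc R v' h2, h.coord U y hy h1 h2, lval_congr h.base U h2 h1]
  ring

theorem coeff_of_isHomL {n : ℕ} {f : Fn B.V} (hf : IsHomL B n f) {U : X.left.Opens}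
    {y : Γ(B.V.left, B.π.left ⁻¹ᵁ U)} (hy : y ∈ B.atlas.chart U) {W : X.left.Opens} (hW : IsAffineOpen W)
    (hWU : W ≤ U) : ∃ c : Γ(X.left, W),
      GLinSh.resTop B.π W f = B.π.left.app W c * GLinSh.res B.π hWU y ^ n := by
  letI : Algebra k Γ(X.left, W) := GrpSchLib.Kunneth.algOpen hW
  let o : VecGrp.pt k Γ(X.left, W) ⟶ X := GrpSchLib.Kunneth.openPt hW
  have ho : ⊤ ≤ o.left ⁻¹ᵁ W := fun t _ => by
    show hW.fromSpec.base t ∈ W
    rw [← SetLike.mem_coe, ← hW.range_fromSpec]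
    exact ⟨t, rfl⟩
  have hlo : lval o W ho = RingHom.id _ := by
    have h1 := left_eq_fromSpec o hW ho
    have h2 : Spec.map (CommRingCat.ofHom (lval o W ho)) =
        Spec.map (CommRingCat.ofHom (RingHom.id Γ(X.left, W))) :=
      (cancel_mono hW.fromSpec).mp (h1.trans (by
        rw [CommRingCat.ofHom_id, Spec.map_id, Category.id_comp]
        rfl))
    exact congrArg CommRingCat.Hom.hom (Spec.map_injective h2)
  obtain ⟨P, hP⟩ := (B.atlas.coord U y hy W hW hWU).2 (GLinSh.resTop B.π W f)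
  simp only [Polynomial.coe_eval₂RingHom] at hP
  refine ⟨P.eval 1, ?_⟩
  have key : P = Polynomial.C (P.eval 1) * Polynomial.X ^ n := by
    refine sub_eq_zero.mp (eq_zero_of_localization _ fun q hq => ?_)
    haveI := hq.isPrime
    let R := Localization.AtPrime q
    let φ : Γ(X.left, W) →ₐ[k] R :=
      { (algebraMap (Polynomial Γ(X.left, W)) R).comp Polynomial.C with
        commutes' := fun _ => rfl }
    let x : VecGrp.pt k R ⟶ X := VecGrp.ptMap φ ≫ o
    have hxW : ⊤ ≤ x.left ⁻¹ᵁ W := fun t _ => ho (Set.mem_univ _)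
    have hxU : ⊤ ≤ x.left ⁻¹ᵁ U := hxW.trans (x.left.preimage_mono hWU)
    obtain ⟨v, hv, hv1⟩ := exists_point B x hy hxU 1
    obtain ⟨v', hv', hv1'⟩ := exists_point B x hy hxU (algebraMap (Polynomial Γ(X.left, W)) R Polynomial.X)
    have hvU : ⊤ ≤ v.left ⁻¹ᵁ (B.π.left ⁻¹ᵁ U) := by rw [top_le_of_comp, hv]; exact hxU
    have hvU' : ⊤ ≤ v'.left ⁻¹ᵁ (B.π.left ⁻¹ᵁ U) := by rw [top_le_of_comp, hv']; exact hxU
    have hrel : Rel B (algebraMap (Polynomial Γ(X.left, W)) R Polynomial.X) v v' :=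
      rel_of_chart B hy (hv'.trans hv.symm) hvU hvU' (by rw [hv1, hv1', _root_.mul_one])
    have hval : ∀ (z : VecGrp.pt k R ⟶ B.V) (hz : z ≫ B.π = x) (hzU : ⊤ ≤ z.left ⁻¹ᵁ (B.π.left ⁻¹ᵁ U)),
        pullFn z f = P.eval₂ φ.toRingHom (lval z _ hzU y) := by
      intro z hz hzU
      have hzW : ⊤ ≤ z.left ⁻¹ᵁ (B.π.left ⁻¹ᵁ W) := by rw [top_le_of_comp, hz]; exact hxW
      rw [← lval_resTop z hzW f,
        show B.V.left.presheaf.map (homOfLE le_top).op f = GLinSh.resTop B.π W f from rfl, ← hP,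
        Polynomial.hom_eval₂]
      congr 1
      · refine RingHom.ext fun c => ?_
        rw [RingHom.comp_apply, ← lval_comp z B.π W (by rw [hz]; exact hxW) hzW, lval_congr hz W _ hxW,
          lval_ptMap φ o W ho hxW, hlo]
        rfl
      · exact lval_res z (B.π.left.preimage_mono hWU) hzW y
    have h := hf R _ v v' hrel
    rw [hval v hv hvU, hval v' hv' hvU', hv1, hv1'] at h
    have e1 : P.eval₂ φ.toRingHom (algebraMap (Polynomial Γ(X.left, W)) R Polynomial.X) =
        algebraMap (Polynomial Γ(X.left, W)) R P := by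
      show P.eval₂ ((algebraMap (Polynomial Γ(X.left, W)) R).comp Polynomial.C) _ = _
      rw [← Polynomial.hom_eval₂, Polynomial.eval₂_C_X]
    have e2 : P.eval₂ φ.toRingHom 1 = algebraMap (Polynomial Γ(X.left, W)) R (Polynomial.C (P.eval 1)) := by
      show P.eval₂ ((algebraMap (Polynomial Γ(X.left, W)) R).comp Polynomial.C) 1 = _
      rw [← map_one ((algebraMap (Polynomial Γ(X.left, W)) R).comp Polynomial.C), Polynomial.eval₂_at_apply]
      rfl
    rw [e1, e2, ← map_pow, ← map_mul] at h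
    rw [map_sub, h, mul_comm (Polynomial.X ^ n), sub_self]
  conv_lhs => rw [← hP, key]
  simp

/-- A function homogeneous at local vectors is a weight function. -/
theorem hasWeight_of_isHomL {n : ℕ} {f : Fn B.V} (hf : IsHomL B n f) : GLinSh.HasWeight B.atlas.chart n f := by
  intro U y hy
  let I := {T : X.left.affineOpens // T.1 ≤ U}
  choose c hc using fun T : I => coeff_of_isHomL B hf hy T.1.2 T.2
  have hcompat : TopCat.Presheaf.IsCompatible X.left.presheaf (fun T : I => T.1.1) c := by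
    intro i j
    refine coeff_unique B.atlas hy (inf_le_left.trans i.2) (n := n) ?_
    have e1 := res_relation (π := B.π) (inf_le_left : i.1.1 ⊓ j.1.1 ≤ i.1.1) (hc i)
    have e2 := res_relation (π := B.π) (inf_le_right : i.1.1 ⊓ j.1.1 ≤ j.1.1) (hc j)
    rw [res_res] at e1 e2
    exact e1.symm.trans e2
  obtain ⟨C, hC, -⟩ := X.left.sheaf.existsUnique_gluing' (fun T : I => T.1.1) U (fun T => homOfLE T.2)
    (fun x hx => by
      obtain ⟨T, hT, hxT, hTU⟩ := exists_isAffineOpen_mem_and_subset (x := x) (U := U) hx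
      exact Opens.mem_iSup.mpr ⟨⟨⟨T, hT⟩, hTU⟩, hxT⟩) c hcompat
  refine ⟨C, B.V.left.sheaf.eq_of_locally_eq' (fun T : I => B.π.left ⁻¹ᵁ T.1.1) (B.π.left ⁻¹ᵁ U)
    (fun T => homOfLE (B.π.left.preimage_mono T.2)) (fun z hz => ?_) _ _ fun T => ?_⟩
  · obtain ⟨T, hT, hxT, hTU⟩ := exists_isAffineOpen_mem_and_subset (x := B.π.left.base z) (U := U) hz
    exact Opens.mem_iSup.mpr ⟨⟨⟨T, hT⟩, hTU⟩, hxT⟩
  · show GLinSh.res B.π T.2 (GLinSh.resTop B.π U f) = GLinSh.res B.π T.2 (B.π.left.app U C * y ^ n)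
    rw [res_resTop, hc T]
    simp only [GLinSh.res, map_mul, map_pow]
    refine congrArg (· * _) (Eq.trans ?_ (res_app T.2 C).symm)
    exact congrArg (B.π.left.app T.1.1) (hC T).symm

/-- The translate of a function. -/
noncomputable def tr (g : 𝟙_ (Over (Spec (CommRingCat.of k))) ⟶ G) : Fn B.V →ₐ[k] Fn B.V :=
  ev (HMTransLib.transl B.lift g)

theorem pullFn_tr {R : Type u} [CommRing R] [Algebra k R] (g : 𝟙_ (Over (Spec (CommRingCat.of k))) ⟶ G)
    (v : VecGrp.pt k R ⟶ B.V) (f : Fn B.V) :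
    pullFn v (tr B g f) = pullFn (lift (cst g R) v ≫ B.lift.act) f := by
  rw [GrpSchLib.Kunneth.pullFn_apply, tr, GrpSchLib.Kunneth.ev_ev, HMTransLib.comp_transl]
  rfl

theorem isHomL_tr {n : ℕ} {f : Fn B.V} (hf : IsHomL B n f) (g : 𝟙_ (Over (Spec (CommRingCat.of k))) ⟶ G) :
    IsHomL B n (tr B g f) := by
  intro R _ _ _ s v v' h
  rw [pullFn_tr, pullFn_tr]
  exact hf R s _ _ (h.act B _)

theorem isHomL_add {n : ℕ} {f g : Fn B.V} (hf : IsHomL B n f) (hg : IsHomL B n g) : IsHomL B n (f + g) := by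
  intro R _ _ _ s v v' h
  rw [map_add, map_add, hf R s v v' h, hg R s v v' h, mul_add]

theorem isHomL_smul {n : ℕ} {f : Fn B.V} (hf : IsHomL B n f) (c : k) : IsHomL B n (c • f) := by
  intro R _ _ _ s v v' h
  rw [map_smul, map_smul, hf R s v v' h, mul_smul_comm]

theorem isHomL_zero {n : ℕ} : IsHomL B n (0 : Fn B.V) := by
  intro R _ _ _ s v v' h
  simp

theorem IsHomL.mul {m n : ℕ} {f g : Fn B.V} (hf : IsHomL B m f) (hg : IsHomL B n g) :
    IsHomL B (m + n) (f * g) := by
  intro R _ _ _ s v v' h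
  rw [map_mul, map_mul, hf R s v v' h, hg R s v v' h, pow_add]
  ring

theorem IsHomL.pow' {n : ℕ} {f : Fn B.V} (h : IsHomL B n f) (m : ℕ) : IsHomL B (n * m) (f ^ m) := by
  intro R _ _ _ s v v' hs
  rw [map_pow, map_pow, h R s v v' hs, mul_pow, pow_mul]

end Groth.Agent.HMAmple
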